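import Cfsg.Agent.Lib.M12S.Sig
import Cfsg.Agent.Lib.X32.CaseB
import Cfsg.Agent.Lib.Glaub.Fac
import Cfsg.Agent.S1221
import Cfsg.Agent.S0217

/-!
# General lemmas: extremal conjugation, the core-free centraliser, signalizers
-/

set_option autoImplicit false
set_option linter.unusedSectionVars false

namespace Cfsg.Lib.M12S

open Subgroup Cfsg.Lib.X32 Cfsg.Lib.Core Cfsg.Lib.BG1 Cfsg.Lib.Invol Cfsg.Lib.GW
open Cfsg.Lib.Amalg hiding le_cent_symm op_top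

universe u

variable {M : Type} [Group M] {G : Type u} [Group G] [Finite G] {ψ : M →* G} {g h a b c e f v : G} {k l z : M}
  {V W E : Subgroup G}

local instance : Fact (Nat.Prime 2) := ⟨Nat.prime_two⟩

omit [Finite G] in
theorem map_cent_le (k : M) : (𝐂[k]).map ψ ≤ 𝐂[ψ k] := by
  rintro _ ⟨x, hx, rfl⟩; exact mem_cen (mem_centralizer_singleton_iff.1 hx)

theorem cj_into (pg : IsPGroup 2 M) {P : Subgroup G} (hP : Syl 2 P 𝐂[ψ l]) (hg : Cj ψ g k l) :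
    ∃ c, Cj ψ c l l ∧ Cj ψ (c * g) k l ∧ cj (c * g) ((𝐂[k]).map ψ) ≤ P := by
  obtain ⟨c, c1, c2⟩ := hP.exists_conj_le (P := cj g ((𝐂[k]).map ψ)) (isPGroup_cj _ ((pg.to_subgroup _).map ψ))
    ((cj_mono g (map_cent_le k)).trans (by rw [cj_centralizer_singleton, show _ = ψ l from hg]))
  have : Cj ψ c l l := .of_comm (mem_centralizer_singleton_iff.1 c1)
  exact ⟨c, this, hg.comp this, by rwa [cj_mul]⟩

theorem syl_z (hS : Syl 2 ψ.range ⊤) (zc : ∀ k, k * z = z * k) : Syl 2 ψ.range 𝐂[ψ z] :=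
  hS.of_le (by rintro _ ⟨x, rfl⟩; exact mem_cen (zc x)) le_top

theorem syl_cent [Finite M] (pg : IsPGroup 2 M) (hi : Function.Injective ψ) (hS : Syl 2 ψ.range ⊤)
    (h : ∀ g l, Cj ψ g k l → Nat.card 𝐂[l] ≤ Nat.card 𝐂[k]) : Syl 2 ((𝐂[k]).map ψ) 𝐂[ψ k] := by
  obtain ⟨R, R1, R2⟩ := exists_syl_ge ((pg.to_subgroup _).map ψ) (map_cent_le (ψ := ψ) k)
  obtain ⟨m, -, hm⟩ := hS.exists_conj_le R1.isPGroup le_top
  obtain ⟨y, hy⟩ := Cj.ex ((cj_mono m R2).trans hm) (k := k) (mem_centralizer_singleton_iff.2 rfl)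
  have h1 : cj m R ≤ (𝐂[y]).map ψ := fun x hx => by
    obtain ⟨l, rfl⟩ := hm hx
    refine ⟨l, mem_centralizer_singleton_iff.2 (hi ?_), rfl⟩
    have := cj_mono m R1.le hx
    rw [cj_centralizer_singleton, show _ = ψ y from hy, mem_centralizer_singleton_iff] at this
    rw [map_mul, map_mul, this]
  have h7 := card_le_of_le h1
  rw [card_cj, card_map_of_injective hi] at h7
  rw [eq_of_le_of_card_ge R2 (by rw [card_map_of_injective hi]; exact h7.trans (h _ _ hy))]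
  exact R1

theorem card_cent [Fintype M] [DecidableEq M] (k : M) : Nat.card 𝐂[k] = (Finset.univ.filter fun a => a * k = k * a).card :=
  (Nat.card_congr (Equiv.subtypeEquivRight fun _ => mem_centralizer_singleton_iff)).trans (card_eq_filter _)

theorem exists_cj' (hS : Syl 2 ψ.range V) (he : e ∈ V) (h : e * e = 1) : ∃ g ∈ V, ∃ k, g * e * g⁻¹ = ψ k := by
  obtain ⟨g, g1, g2⟩ := hS.exists_conj_le (isPGroup_zpowers_of_pow (k := 1) (by rw [pow_one, pow_two, h])) (zpowers_le.2 he)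
  obtain ⟨k, hk⟩ := g2 (conj_mem_cj g (mem_zpowers e))
  exact ⟨g, g1, k, hk.symm⟩

/-- Odd order elements centralising `a` and a further involution of the given kind lie in the core. -/
def OD (p : G → Prop) (a : G) : Prop := ∀ e, p e → e * e = 1 → e ≠ 1 → e ≠ a → e * a = a * e → ∀ d, Odd (orderOf d) →
  d * e = e * d → d * a = a * d → d ∈ 𝐎'[2](𝐂[a])

theorem exists_quot (pg : IsPGroup 2 M) (hi : Function.Injective ψ) (hS : Syl 2 ψ.range ⊤) (zc : ∀ k, k * z = z * k)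
    (zz : z * z = 1) :
    ∃ (X : Type u) (_ : Group X) (_ : Finite X) (χ : M →* X) (ρ : 𝐂[ψ z] →* X), Function.Injective χ ∧ Syl 2 χ.range ⊤ ∧
      (∀ g, Cj χ g z z) ∧ pPrimeCore 2 X = ⊥ ∧ Function.Surjective ρ ∧ (∀ x, ρ x = 1 ↔ x.1 ∈ 𝐎'[2](𝐂[ψ z])) ∧
      (∀ k, ρ ⟨ψ k, mem_cen (zc k)⟩ = χ k) ∧
      (∀ k l, k * k = 1 → l * l = 1 → ((∃ g, Cj χ g k l) ↔ ∃ h, Cj ψ h z z ∧ Cj ψ h k l)) ∧
      ((∀ e d : X, e * e = 1 → e ≠ 1 → e ≠ χ z → Odd (orderOf d) → d * e = e * d → d = 1) → OD (fun _ => True) (ψ z)) ∧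
      ∀ H : Subgroup M, (H.map χ).Normal → ∀ h ∈ 𝐂[ψ z], ∃ o ∈ 𝐎'[2](𝐂[ψ z]), ∃ n ∈ 𝐍(H.map ψ), h = o * n := by
  have hZ : ∀ x, ψ x ∈ 𝐂[ψ z] := fun x => mem_cen (zc x)
  let ρ := QuotientGroup.mk' (pPrimeCore 2 𝐂[ψ z])
  let ψ1 := ψ.codRestrict _ hZ
  have ρs : Function.Surjective ρ := QuotientGroup.mk'_surjective _
  have ρk : ∀ x, ρ x = 1 ↔ x.1 ∈ 𝐎'[2](𝐂[ψ z]) := fun x => by
    rw [← map_pPrimeCore_subtype Nat.prime_two]
    exact (QuotientGroup.eq_one_iff x).trans (mem_map_iff_mem (subtype_injective _)).symm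
  have ρ2 : ∀ x : 𝐂[ψ z], x * x = 1 → ρ x = 1 → x = 1 := fun x h1 h2 => Subtype.ext (Two.eq_one ⟨1, by
    rw [pow_one, pow_two]; exact congrArg Subtype.val h1⟩ (odd_of_mem (odd_core _) ((ρk x).1 h2)))
  have s1 : Syl 2 ψ1.range ⊤ := by
    convert (syl_z hS zc).subgroupOf_top using 1
    ext y
    exact ⟨fun ⟨x, hx⟩ => ⟨x, congrArg Subtype.val hx⟩, fun ⟨x, hx⟩ => ⟨x, Subtype.ext hx⟩⟩
  have dn : ∀ (h : 𝐂[ψ z]) k l, Cj ψ h k l → Cj (ρ.comp ψ1) (ρ h) k l := fun h k l e => by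
    change ρ _ * ρ _ * (ρ _)⁻¹ = ρ _
    rw [← map_inv, ← map_mul, ← map_mul]
    exact congrArg ρ (Subtype.ext e)
  have cz : ∀ h : 𝐂[ψ z], Cj ψ h z z := fun h => .of_comm (mem_centralizer_singleton_iff.1 h.2)
  refine ⟨_, inferInstance, inferInstance, ρ.comp ψ1, ρ, (injective_iff_map_eq_one _).2 fun x hx => ?_, ?_, fun g => ?_,
    pPrimeCore_quotient_pPrimeCore, ρs, ρk, fun _ => rfl, fun k l kk ll => ⟨fun ⟨g, hg⟩ => ?_, fun ⟨h, h1, h2⟩ =>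
      ⟨_, dn ⟨h, mem_centralizer_singleton_iff.2 h1.comm⟩ k l h2⟩⟩, fun H e _ e1 e2 e3 e4 d d1 d2 d3 => ?_, fun H hn h hh => ?_⟩
  · have := (Glaub.inf_ker_mk' (p := 2) (Q := ψ1.range) (pg.of_surjective _ ψ1.rangeRestrict_surjective)).le ⟨⟨x, rfl⟩, hx⟩
    exact hi ((congrArg Subtype.val (mem_bot.1 this)).trans ψ.map_one.symm)
  · rw [MonoidHom.range_comp]; exact s1.map_top ρs
  · obtain ⟨g, rfl⟩ := ρs g
    exact dn g _ _ (cz g)
  · obtain ⟨g, rfl⟩ := ρs g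
    have k2 : ψ1 k * ψ1 k = 1 := by rw [← map_mul, kk, map_one]
    have l2 : ψ1 l * ψ1 l = 1 := by rw [← map_mul, ll, map_one]
    obtain ⟨h, hh⟩ := isConj_iff.1 ((isConj_iff.2 ⟨g, rfl⟩).trans (isConj_of_odd (x := g * ψ1 k * g⁻¹) (by rw [conj_mul, k2]; simp) l2 (by
      rw [← orderOf_coe]
      refine odd_of_mem (odd_core _) ((ρk _).1 ?_)
      rw [map_mul, map_mul, map_mul, map_inv, show ρ g * ρ (ψ1 k) * (ρ g)⁻¹ = ρ (ψ1 l) from hg, ← map_mul, l2, map_one])))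
    exact ⟨h, cz h, congrArg Subtype.val hh⟩
  · let e' : 𝐂[ψ z] := ⟨e, mem_centralizer_singleton_iff.2 e4⟩
    let d' : 𝐂[ψ z] := ⟨d, mem_centralizer_singleton_iff.2 d3⟩
    have e5 : e' * e' = 1 := Subtype.ext e1
    have z2 : ψ z * ψ z = 1 := by rw [← map_mul, zz, map_one]
    refine (ρk d').1 (H (ρ e') _ (by rw [← map_mul, e5, map_one]) (fun h => e2 (congrArg Subtype.val (ρ2 _ e5 h))) (fun h => e3 ?_)
      ((orderOf_coe d' ▸ d1 : Odd (orderOf d')).of_dvd_nat (orderOf_map_dvd ρ d')) (by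
        rw [← map_mul, ← map_mul]; exact congrArg ρ (Subtype.ext d2)))
    have := congrArg Subtype.val (ρ2 (e' * ψ1 z) (Subtype.ext (show e * ψ z * (e * ψ z) = 1 by
      rw [mul_assoc, ← mul_assoc (ψ z), ← e4, mul_assoc, z2, mul_one, e1])) (by
        rw [map_mul, h]; exact (map_mul (ρ.comp ψ1) z z).symm.trans (by rw [zz, map_one])))
    exact (eq_inv_of_mul_eq_one_left this).trans (inv_eq_of_mul_eq_one_left z2)
  · have := (Glaub.map_norm_pq (Q := H.map ψ1) ((pg.to_subgroup H).map ψ1)).ge (show ρ ⟨h, hh⟩ ∈ _ by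
      rw [map_map, normalizer_eq_top_iff.2 hn]; trivial)
    obtain ⟨n, n1, n2⟩ := this
    refine ⟨h * n⁻¹, (ρk (⟨h, hh⟩ * n⁻¹)).1 (by rw [map_mul, map_inv, show ρ n = _ from n2, mul_inv_cancel]), n, ?_, by simp⟩
    have := le_normalizer_map (𝐂[ψ z]).subtype (mem_map_of_mem _ n1)
    rwa [map_map] at this

theorem OD.conj {p : G → Prop} (h : OD p a) (g : G) (hp : ∀ e, p e → p (g⁻¹ * e * g⁻¹⁻¹)) : OD p (g * a * g⁻¹) :=
  fun e e0 e1 e2 e3 e4 d d1 d2 d3 => by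
  have k : ∀ x y : G, x * y = y * x → g⁻¹ * x * g⁻¹⁻¹ * (g⁻¹ * y * g⁻¹⁻¹) = g⁻¹ * y * g⁻¹⁻¹ * (g⁻¹ * x * g⁻¹⁻¹) := fun x y e => by
    rw [conj_mul, conj_mul, e]
  have a1 : g⁻¹ * (g * a * g⁻¹) * g⁻¹⁻¹ = a := by group
  rw [← cj_centralizer_singleton, ← cj_piCoreOf, mem_cj, ← inv_inv g, inv_inv g⁻¹]
  exact h _ (hp e e0) (by rw [conj_mul, e1]; simp) (fun e => e2 (conj_eq_one_iff.1 e)) (fun e => e3 (by rw [← e]; group)) (a1 ▸ k _ _ e4) _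
    (by rwa [orderOf_conj]) (k _ _ d2) (a1 ▸ k _ _ d3)

/-- The subgroup generated by the cores of the centralisers. -/
def Wf (V : Subgroup G) : Subgroup G := ⨆ a : {a : G // a ∈ V ∧ a ≠ 1}, 𝐎'[2](𝐂[a.1])

omit [Finite G] in
theorem le_Wf (h : a ∈ V) (h1 : a ≠ 1) : 𝐎'[2](𝐂[a]) ≤ Wf V := le_iSup (fun a : {a : G // a ∈ V ∧ a ≠ 1} => 𝐎'[2](𝐂[a.1])) ⟨a, h, h1⟩

theorem cj_core (g a : G) : cj g 𝐎'[2](𝐂[a]) = 𝐎'[2](𝐂[g * a * g⁻¹]) := by rw [cj_piCoreOf, cj_centralizer_singleton]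

theorem cj_Wf (g : G) (V : Subgroup G) : cj g (Wf V) = Wf (cj g V) := by
  have k : ∀ (g : G) (V : Subgroup G), cj g (Wf V) ≤ Wf (cj g V) := fun g V => by
    rw [Wf, cj_iSup]
    exact iSup_le fun a => cj_core g a.1 ▸ le_Wf (conj_mem_cj g a.2.1) (by simpa using a.2.2)
  exact (k g V).antisymm (le_cj_iff.2 ((k _ _).trans (by rw [cj_inv_cj])))

theorem norm_Wf (V : Subgroup G) : 𝐍(V) ≤ 𝐍(Wf V) := fun g hg => cj_eq_self_iff.1 (by rw [cj_Wf, cj_of_mem_normalizer hg])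

theorem Wf_eq (hW : Odd (Nat.card W)) (k : Kl a b) (ha : a ∈ V) (hb : b ∈ V) (hV : V ≤ 𝐍(W))
    (h : ∀ e ∈ V, e ≠ 1 → W ⊓ 𝐂[e] = 𝐎'[2](𝐂[e])) : Wf V = W := by
  have k1 : ∀ e ∈ V, orderOf e = 2 → W ⊓ 𝐂[e] ≤ Wf V := fun e h1 h2 => (h e h1 (ne_one_of_two h2)).trans_le (le_Wf h1 (ne_one_of_two h2))
  exact le_antisymm (iSup_le fun e => (h e e.2.1 e.2.2).ge.trans inf_le_left)
    (k.gen hW (hV ha) (hV hb) (k1 a ha k.ha) (k1 b hb k.hb) (k1 _ (mul_mem ha hb) k.hab))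

theorem signalizer {p : G → Prop} (h1 : ∀ a ∈ E, a * a = 1) (h8 : 8 ≤ Nat.card E) (h : ∀ a ∈ E, a ≠ 1 → p a ∧ OD p a) :
    Odd (Nat.card (Wf E)) ∧ ∀ e ∈ E, e ≠ 1 → Wf E ⊓ 𝐂[e] = 𝐎'[2](𝐂[e]) := by
  have com : ∀ a ∈ E, ∀ b ∈ E, a * b = b * a := fun a ha b hb => by
    have := inv_eq_of_mul_eq_one_left (h1 _ (mul_mem ha hb))
    rwa [mul_inv_rev, inv_eq_of_mul_eq_one_left (h1 a ha), inv_eq_of_mul_eq_one_left (h1 b hb), eq_comm] at this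
  refine (Agent.S0217.result (p := 2) E com (fun a ha => by rw [pow_two, h1 a ha]) h8 (fun a => 𝐎'[2](𝐂[a]))
    (fun a _ _ => piCoreOf_le' _ _) (fun a _ _ => not_two_dvd (odd_core _)) (fun a ha _ b hb x hx =>
      conj_mem_norm (mem_norm_core (mem_norm_cent (com b hb a ha))) hx) (fun a _ _ => solvable_of_odd (odd_core _))
    fun a ha a1 b hb b1 d hd => ?_).imp odd_of_not_two_dvd id
  by_cases e : a = b
  · exact e ▸ hd.1
  exact (h b hb b1).2 a (h a ha a1).1 (h1 a ha) a1 e (com a ha b hb) d (odd_of_mem (odd_core _) hd.1)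
    (mem_centralizer_singleton_iff.1 (piCoreOf_le' _ _ hd.1)) (mem_centralizer_singleton_iff.1 hd.2)

omit [Finite G] in
theorem dih (ha : a * a = 1) (hb : b * b = 1) (hc : c ∈ zpowers (a * b)) : ∃ w ∈ zpowers (a * b),
    w * (a * c) * w⁻¹ = a ∨ w * (a * c) * w⁻¹ = b := by
  obtain ⟨n, rfl⟩ := hc
  have ai := inv_eq_of_mul_eq_one_left ha
  have e : ∀ m : ℤ, (a * b) ^ m * a = a * (a * b) ^ (-m) := fun m => by
    rw [eq_comm, ← mul_inv_eq_iff_eq_mul, ← conj_zpow, ai, ← mul_assoc, ha, one_mul, zpow_neg, ← inv_zpow, mul_inv_rev, ai,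
      inv_eq_of_mul_eq_one_left hb]
  obtain ⟨m, rfl | rfl⟩ := Int.even_or_odd' n <;> refine ⟨_, ⟨m, rfl⟩, ?_⟩ <;> simp only [← mul_assoc, e]
  · left; group
  · right; rw [show a * (a * b) ^ (-m) * (a * b) ^ (2 * m + 1) * ((a * b) ^ m)⁻¹ = a * a * b by group, ha, one_mul]

/-- An odd order normal subgroup of a strongly embedded subgroup. -/
theorem le_core_of_se {K K0 N Y : Subgroup G} (h : IsStronglyEmbedded (N.subgroupOf K0)) (h1 : K0 ≤ K) (h2 : K ≤ 𝐍(K0))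
    (hY : Odd (Nat.card Y)) (h3 : Y ≤ N ⊓ K0) (h4 : N ⊓ K0 ≤ 𝐍(Y)) : Y ≤ 𝐎'[2](K) := by
  have e := map_mono (f := K0.subtype) (Agent.S1221.result _ h)
  rw [map_pPrimeCore_subtype Nat.prime_two, map_pPrimeCore_subtype Nat.prime_two] at e
  refine le_trans ?_ (e.trans (le_core ((piCoreOf_le' _ _).trans h1) (le_norm_piCoreOf _ h2) (odd_core _)))
  rw [← map_subgroupOf_of_le (h3.trans inf_le_right)]
  refine map_mono (le_core (comap_mono (h3.trans inf_le_left)) (fun g hg => ?_) ?_)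
  · rw [normalizer_subgroupOf (h3.trans inf_le_right)]; exact h4 ⟨hg, g.2⟩
  · rwa [Nat.card_congr (subgroupOfEquivOfLe (h3.trans inf_le_right)).toEquiv]

end Cfsg.Lib.M12S
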