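import Cfsg.Agent.Lib.M12S.Sig
import Cfsg.Agent.Lib.X32.Init

/-!
# Groups with a Sylow `2`-subgroup of type `M₁₂` and a central involution
-/

set_option autoImplicit false
set_option linter.unusedSectionVars false
set_option maxRecDepth 100000
set_option synthInstance.maxSize 100000
set_option synthInstance.maxHeartbeats 400000

namespace Cfsg.Lib.M12S

open Subgroup Cfsg.Lib.X32 Cfsg.Lib.Amalg Cfsg.Lib.Core Equiv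
open Cfsg.Lib.GW (Two Two.eq_one)

universe u

local notation "⟪" n "⟫" => TB.el n

local instance : Fact (Nat.Prime 2) := ⟨Nat.prime_two⟩

/-- Commuting nonsingular vectors. -/
def cm6 (i j : Fin 6) : Prop := i = j ∨ ¬ (i.1 < 3 ↔ j.1 < 3)
instance (i j : Fin 6) : Decidable (cm6 i j) := by unfold cm6; infer_instance
/-- Permutations preserving the commutation relation. -/
def Pres (γ : Perm (Fin 6)) : Prop := ∀ i j, cm6 (γ i) (γ j) ↔ cm6 i j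
instance (γ : Perm (Fin 6)) : Decidable (Pres γ) := by unfold Pres; infer_instance

theorem Pres.pow : ∀ γ, Pres γ → (γ ^ 3) ^ 2 ^ 2 = 1 := by decide +kernel

def x1 : Perm (Fin 6) := ⟨![1, 2, 0, 4, 5, 3], ![2, 0, 1, 5, 3, 4], by decide, by decide⟩
def x2 : Perm (Fin 6) := ⟨![1, 2, 0, 5, 3, 4], ![2, 0, 1, 4, 5, 3], by decide, by decide⟩

variable {X : Type u} [Group X] [Finite X]

theorem Md.Sg.cube {M : Type} [Group M] {m : Md M} {ψ : M →* X} {σ : 𝐍 (m.Q.map ψ) →* Perm (Fin 6)} (s : m.Sg ψ σ)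
    (hi : Function.Injective ψ) (hS : Syl 2 ψ.range ⊤) (hc : ∀ i j, m.n i * m.n j = m.n j * m.n i ↔ cm6 i j) (g) :
    Pres (σ g) ∧ ∃ n k, σ n * σ g ^ 3 * (σ n)⁻¹ = σ ⟨ψ k, m.TN k⟩ := by
  have p : ∀ g, Pres (σ g) := fun g i j => by rw [← hc, ← hc, s.pres hi]
  obtain ⟨_, ⟨n, -, rfl⟩, h⟩ := ((hS.of_le (K := 𝐍 (m.Q.map ψ)) (by rintro _ ⟨k, rfl⟩; exact m.TN k)
    le_top).subgroupOf_top.map σ).exists_conj_le (isPGroup_zpowers_of_pow (Pres.pow _ (p g))) (zpowers_le.2 ⟨g ^ 3, trivial, map_pow σ g 3⟩)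
  obtain ⟨⟨_, y⟩, ⟨k, rfl⟩, hk⟩ := h (conj_mem_cj _ (mem_zpowers _))
  exact ⟨p g, n, k, hk.symm⟩

namespace TB

def nB : Fin 6 → TB := ![⟪1⟫, ⟪2⟫, ⟪3⟫, ⟪4⟫, ⟪8⟫, ⟪12⟫]

abbrev QB : Subgroup TB := sg (fun h => h.1 < 32) (by decide +kernel)

/-- The data of the model. -/
def md : Md TB where
  Q := QB
  z := ⟪16⟫
  n := nB
  pg := pg
  zc := by decide +kernel
  zz := by decide +kernel
  z1 := by decide +kernel
  zQ := by decide +kernel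
  nQ := by decide +kernel
  nsq := by decide +kernel
  ns := by decide +kernel
  ninj := by decide +kernel
  gen := by decide +kernel
  sq := by decide +kernel
  cQ := by decide +kernel
  cm := by decide +kernel
  nrm := by decide +kernel
  sing := by decide +kernel
  cen := by decide +kernel
  nab := by decide +kernel
  card := (card_sg _ _).trans (by decide +kernel)

def τ : Perm (Fin 6) := ⟨![0, 2, 1, 3, 5, 4], ![0, 2, 1, 3, 5, 4], by decide, by decide⟩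
def G10 : List (Perm (Fin 6)) := [1, τ, x1, x1⁻¹, τ * x1, τ * x1⁻¹, x2, x2⁻¹, τ * x2, τ * x2⁻¹]
/-- The classes of `⟪9⟫` and `⟪6⟫`. -/
abbrev nz : TB → Prop := bm 0x22c022c0
def P2 (δ : Perm (Fin 6)) : Prop := (δ 0).1 < 3 ∧ (∃ i : Fin 6, i.1 < 3 ∧ δ i ≠ i) ∧ ∃ i : Fin 6, 3 ≤ i.1 ∧ δ i ≠ i
instance (γ : Perm (Fin 6)) : Decidable (P2 γ) := by unfold P2; infer_instance

theorem d1 : ∀ ν, Pres ν → P2 (ν⁻¹ * τ * ν) := by decide +kernel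
theorem d2 : ∀ γ, Pres γ → γ ^ 3 = 1 ∨ P2 (γ ^ 3) → ¬ nz (nB (γ 0) * nB (γ 3)) → γ ∈ G10 := by decide +kernel
theorem d3 : ∀ k : TB, ∃ γ ∈ [1, τ], ∀ i, k * nB i * k⁻¹ = nB (γ i) ∨ k * nB i * k⁻¹ = nB (γ i) * ⟪16⟫ := by decide +kernel
theorem d4 : ∀ γ ∈ G10, γ * γ = 1 ∨ (γ * γ * γ = 1 ∧ (∀ δ ∈ G10, δ * δ = 1 → γ * δ = δ * γ → δ = 1) ∧
    ∀ c, (W nB γ c = W nB id c ∨ W nB γ c = W nB id c * ⟪16⟫) → W nB id c = 1) := by decide +kernel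
theorem cls : ∀ h : TB, h * h = 1 → h = 1 ∨ h = ⟪16⟫ ∨ ∃ k, k * h * k⁻¹ = ⟪5⟫ ∨ k * h * k⁻¹ = ⟪10⟫ ∨ k * h * k⁻¹ = ⟪11⟫ ∨
    k * h * k⁻¹ = ⟪9⟫ ∨ k * h * k⁻¹ = ⟪6⟫ ∨ k * h * k⁻¹ = ⟪32⟫ := by decide +kernel

variable {ψ : TB →* X} {g h : X} {k l : TB}

/-- Hypotheses on the centraliser. -/
structure St (ψ : TB →* X) : Prop where
  inj : Function.Injective ψ
  syl : Syl 2 ψ.range ⊤
  cen : ∀ g, Cj ψ g ⟪16⟫ ⟪16⟫

abbrev Vt : Subgroup TB := sg (bm 0x1000100010001) (by decide +kernel)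
abbrev Wt : Subgroup TB := sg (bm 0x33003300330033) (by decide +kernel)

theorem St.closed (s : St ψ) (hk : k ∈ QB) (hg : Cj ψ g k l) : l ∈ QB := by
  have hi := s.inj
  by_contra hl
  have pp : ∀ H : Subgroup TB, IsPGroup 2 (H.map ψ) := fun H => (pg.to_subgroup H).map ψ
  have kk : k * k = 1 := (md.sq k hk).resolve_right fun e => hl (md.sqQ ((hg.mul hg).uniq hi ((s.cen g).cast e.symm rfl)))
  obtain ⟨r, hr⟩ := (by decide +kernel : ∀ l, l ∉ QB → l * l = 1 → ∃ r, r * l * r⁻¹ = ⟪32⟫) l hl ((Cj.sq hi hg).2 kk)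
  have g1 := hg.comp (Cj.of' r hr)
  generalize ψ r * g = g at g1
  have nV : ∀ y, Cz ψ ⟪16⟫ y ⟪32⟫ ⟪32⟫ → y ∈ 𝐍 (Vt.map ψ) := fun y e => mem_normalizer_of_cj_le (cj_le_iff'.2 (by
    rintro _ ⟨p, hp, rfl⟩
    rcases (by decide +kernel : ∀ p ∈ Vt, p = 1 ∨ p = ⟪16⟫ ∨ p = ⟪32⟫ ∨ p = ⟪32⟫ * ⟪16⟫) p hp with rfl | rfl | rfl | rfl
    · simp
    · exact ⟨_, hp, Eq.symm (s.cen y)⟩
    · rcases e with e | e
      exacts [⟨_, hp, Eq.symm e⟩, ⟨_, show ⟪32⟫ * ⟪16⟫ ∈ Vt by decide +kernel, Eq.symm e⟩]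
    · rcases md.cz_z (s.cen y) e with e | e
      exacts [⟨_, show ⟪32⟫ ∈ Vt by decide +kernel, Eq.symm e⟩, ⟨_, hp, Eq.symm e⟩]))
  obtain ⟨P, P1, P2⟩ := exists_syl_ge (H := 𝐍 (Vt.map ψ)) (pp Wt) (by
    rintro _ ⟨p, hp, rfl⟩
    exact nV _ (((by decide +kernel : ∀ p ∈ Wt, p * ⟪32⟫ * p⁻¹ = ⟪32⟫ ∨ p * ⟪32⟫ * p⁻¹ = ⟪32⟫ * ⟪16⟫) p hp).imp
      (Cj.of' p) (Cj.of' p)))
  obtain ⟨c, c1, c2⟩ := P1.exists_conj_le (P := cj g (QB.map ψ)) (isPGroup_cj _ (pp _)) (cj_le_iff'.2 (by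
    rintro _ ⟨q, hq, rfl⟩
    refine nV _ ((md.cm q hq k hk).imp (fun e => ?_) fun e => ?_)
    · exact ((g1.symm.comp (Cj.of' q e)).comp g1).cast' (mul_assoc _ _ _).symm
    · exact ((g1.symm.comp (Cj.of' q e)).comp (g1.mul (s.cen g))).cast' (mul_assoc _ _ _).symm))
  obtain ⟨m, -, m2⟩ := s.syl.exists_conj_le P1.isPGroup le_top
  have w1 : m * c * g ∈ 𝐍 (QB.map ψ) := md.wc hi (s.cen _) (by rw [cj_mul, cj_mul]; exact (cj_mono m c2).trans m2)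
  obtain ⟨y, y1, y2⟩ := md.exN w1 hk
  obtain ⟨t', t1, t2⟩ := (cj_of_mem_normalizer c1).le (conj_mem_cj c (mem_map_of_mem ψ (show ⟪32⟫ ∈ Vt by decide +kernel)))
  have t3 : Cj ψ c ⟪32⟫ t' := t2.symm
  have t4 : Cj ψ m t' y := ((t3.symm.comp g1.symm).comp y2).cast' (by group)
  have t5 : ∃ y ∈ QB, Cj ψ m ⟪32⟫ y := by
    rcases (by decide +kernel : ∀ p ∈ Vt, p = 1 ∨ p = ⟪16⟫ ∨ p = ⟪32⟫ ∨ p * ⟪16⟫ = ⟪32⟫) t' t1 with rfl | rfl | rfl | e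
    · exact absurd rfl (Cj.ne hi t3 (by decide +kernel))
    · exact absurd (Cj.un' hi t3 (s.cen c)) (by decide +kernel)
    · exact ⟨y, y1, t4⟩
    · exact ⟨_, mul_mem y1 md.zQ, (t4.mul (s.cen m)).cast e rfl⟩
  have t6 : ∀ w ∈ Wt, ∃ y ∈ QB, Cj ψ m w y := fun w hw => by
    have k1 : ∀ p ∈ Wt, p * p = ⟪16⟫ → ∃ y ∈ QB, Cj ψ m p y := fun p hp e => by
      obtain ⟨y, hy⟩ := Cj.ex ((cj_mono m P2).trans m2) hp
      exact ⟨y, md.sqQ ((hy.mul hy).uniq hi ((s.cen m).cast e.symm rfl)), hy⟩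
    rcases (by decide +kernel : ∀ w ∈ Wt, ∃ p ∈ Wt, p * p = ⟪16⟫ ∧ ∃ q ∈ Wt, q * q = ⟪16⟫ ∧
      (w = p ∨ w = p * q ∨ w = ⟪32⟫ * p ∨ w = ⟪32⟫ * (p * q))) w hw with ⟨p, p1, p2, q, q1, q2, e⟩
    obtain ⟨a, a1, a2⟩ := k1 p p1 p2
    obtain ⟨b, b1, b2⟩ := k1 q q1 q2
    obtain ⟨c, c1, c2⟩ := t5
    rcases e with rfl | rfl | rfl | rfl
    exacts [⟨a, a1, a2⟩, ⟨_, mul_mem a1 b1, a2.mul b2⟩, ⟨_, mul_mem c1 a1, c2.mul a2⟩,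
      ⟨_, mul_mem c1 (mul_mem a1 b1), c2.mul (a2.mul b2)⟩]
  obtain ⟨n, n1, n2⟩ := (s.syl.of_le (K := 𝐍 (Wt.map ψ)) (by
    rintro _ ⟨r, rfl⟩
    refine mem_normalizer_of_cj_le (cj_le_iff'.2 ?_)
    rintro _ ⟨p, hp, rfl⟩
    exact ⟨_, (by decide +kernel : ∀ r, ∀ p ∈ Wt, r * p * r⁻¹ ∈ Wt) r p hp, by simp⟩) le_top).exists_conj_le
    (P := cj m⁻¹ (QB.map ψ)) (isPGroup_cj _ (pp _)) (cj_le_iff'.2 (by
      rintro _ ⟨q, hq, rfl⟩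
      refine mem_normalizer_of_cj_le (cj_le_iff'.2 ?_)
      rintro _ ⟨w, hw, rfl⟩
      obtain ⟨y, y1, y2⟩ := t6 w hw
      rcases md.cm q hq y y1 with e | e
      · exact ⟨w, hw, Eq.symm (((y2.comp (Cj.of' q e)).comp y2.symm).cast' (by group))⟩
      · exact ⟨_, mul_mem hw (by decide +kernel), Eq.symm (((y2.comp (Cj.of' q e)).comp (y2.mul (s.cen m)).symm).cast' (by group))⟩))
  have w2 : n * m⁻¹ ∈ 𝐍 (QB.map ψ) := md.wc hi (s.cen _) (by rwa [cj_mul])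
  obtain ⟨w, w3, w4⟩ := (cj_of_mem_normalizer (inv_mem n1)).le (conj_mem_cj _ (mem_map_of_mem ψ (show ⟪32⟫ ∈ Wt by decide +kernel)))
  obtain ⟨y, y1, y2⟩ := t6 w w3
  obtain ⟨y', y3, y4⟩ := md.exN w2 y1
  have w5 : Cj ψ n⁻¹ ⟪32⟫ w := w4.symm
  rw [((w5.comp y2).comp y4).uniq hi (Cj.id.cast' (by group))] at y3
  exact absurd (show ⟪32⟫ ∈ QB from y3) (by decide +kernel)

variable {σ : 𝐍 (md.Q.map ψ) →* Perm (Fin 6)}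

theorem St.g10 (s : St ψ) (hn : ∀ g l, Cj ψ g ⟪5⟫ l → ¬ nz l) (c : md.Sg ψ σ) (g) : σ g ∈ G10 := by
  obtain ⟨h1, n, k, h2⟩ := c.cube s.inj s.syl (by decide +kernel) g
  refine d2 _ h1 ?_ fun e => ?_
  · obtain ⟨γ, h3, h4⟩ := d3 k
    rw [c.eq s.inj (g := ⟨ψ k, md.TN k⟩) (τ := γ) fun i => (h4 i).imp (Cj.of' k) (Cj.of' k)] at h2
    simp only [List.mem_cons, List.not_mem_nil, or_false] at h3
    rcases h3 with rfl | rfl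
    · exact .inl (conj_eq_one_iff.1 h2)
    · exact .inr (by have := d1 _ (c.cube s.inj s.syl (by decide +kernel) n).1; rwa [← h2, ← mul_assoc, ← mul_assoc,
        inv_mul_cancel, one_mul, inv_mul_cancel_right] at this)
  · rcases md.cz_mul (c g 0) (c g 3) with e' | e'
    · exact hn _ _ e' e
    · exact hn _ _ e' ((by decide +kernel : ∀ l, nz l → nz (l * ⟪16⟫)) _ e)

theorem odd_eq_one {γ : Perm (Fin 6)} (h : Odd (orderOf γ)) (e : γ * γ = 1) : γ = 1 :=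
  Two.eq_one ⟨1, by rw [pow_one, pow_two, e]⟩ h

theorem St.normal (s : St ψ) (hn : ∀ g l, Cj ψ g ⟪5⟫ l → ¬ nz l) (c : md.Sg ψ σ) (hO : pPrimeCore 2 X = ⊥) :
    (QB.map ψ).Normal ∧ ∀ g, σ g = 1 → g.1 ∈ QB.map ψ :=
  c.normal s.inj s.cen s.syl hO (fun _ _ _ => s.closed) (.inr fun g h =>
    (d4 _ (s.g10 hn c g)).imp (odd_eq_one h) fun e => e.2.2)

theorem St.main (s : St ψ) (hn : ∀ g l, Cj ψ g ⟪5⟫ l → ¬ nz l) (hO : pPrimeCore 2 X = ⊥) :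
    (QB.map ψ).Normal ∧ (∀ e d : X, e * e = 1 → e ≠ 1 → e ≠ ψ ⟪16⟫ → Odd (orderOf d) → d * e = e * d → d = 1) ∧
    ((∃ g, Cj ψ g ⟪9⟫ ⟪6⟫) → ∃ g, Cj ψ g ⟪5⟫ ⟪10⟫ ∨ Cj ψ g ⟪5⟫ ⟪11⟫) ∧
    ((∃ g, Cj ψ g ⟪5⟫ ⟪10⟫) → (∃ g, Cj ψ g ⟪9⟫ ⟪11⟫) ∧ ∃ x, FP (QB.map ψ) (ψ ⟪16⟫) x ∧
      (∀ u, u * u = 1 → u ∉ QB.map ψ → u * (x * u * x⁻¹) * x⁻¹ ∈ QB.map ψ) ∧
      ∀ t, t * t = 1 → t ∉ QB.map ψ → ∀ l, ∃ k ∈ [1, x, x⁻¹, t, t * x, t * x⁻¹], l * k⁻¹ ∈ QB.map ψ) := by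
  have hi := s.inj
  obtain ⟨σ, c⟩ := md.exists_sg hi s.cen
  obtain ⟨h1, h2⟩ := s.normal hn c hO
  have top : ∀ y, y ∈ 𝐍 (md.Q.map ψ) := fun y => (normalizer_eq_top_iff.2 h1).ge (mem_top y)
  let Φ : X →* Perm (Fin 6) := σ.comp ((MonoidHom.id X).codRestrict _ top)
  have Φk : ∀ g, Φ g = 1 ↔ g ∈ QB.map ψ := fun g => ⟨h2 ⟨g, top g⟩, by rintro ⟨k, hk, rfl⟩; exact c.Q hi hk⟩
  have Φg : ∀ g, Φ g ∈ G10 := fun g => s.g10 hn c _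
  have Φc : ∀ g i, Cz ψ ⟪16⟫ g (nB i) (nB (Φ g i)) := fun g => c ⟨g, top g⟩
  have fp : ∀ g, Φ g * Φ g ≠ 1 → ∀ q ∈ QB.map ψ, g * q * g⁻¹ = q → q = 1 ∨ q = ψ ⟪16⟫ := by
    rintro g h _ ⟨k, hk, rfl⟩ e
    obtain ⟨w, w1, w2⟩ := c.img hi s.cen ⟨g, top g⟩ hk (.inl e)
    have := ((d4 _ (Φg g)).resolve_left h).2.2 w (by
      rcases w1 with w1 | w1 <;> rcases w2 with w2 | w2
      exacts [.inl (w2.symm.trans w1), .inr (by rw [← show k = W nB id w from w1, w2]; exact (md.zzc _).symm),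
        .inr (w2.symm.trans w1), .inl (mul_right_cancel (w2.symm.trans w1))])
    rcases w1 with w1 | w1 <;> rw [w1, show W md.n id w = 1 from this] <;> simp [md]
  have Φt : Φ (ψ ⟪32⟫) = τ := c.eq hi fun i => ((by decide +kernel : ∀ i, ⟪32⟫ * nB i * ⟪32⟫⁻¹ = nB (τ i) ∨
    ⟪32⟫ * nB i * ⟪32⟫⁻¹ = nB (τ i) * ⟪16⟫) i).imp (Cj.of' _) (Cj.of' _)
  have im : ∀ g i j l, Cj ψ g (nB i * nB j) l → l = nB (Φ g i) * nB (Φ g j) ∨ l = nB (Φ g i) * nB (Φ g j) * ⟪16⟫ :=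
    fun g i j l e => md.cz_uniq hi (.inl e) (md.cz_mul (Φc g i) (Φc g j))
  have im' : ∀ g i j l, (∃ r, r * (nB (Φ g i) * nB (Φ g j)) * r⁻¹ = l) → (∃ r, r * (nB (Φ g i) * nB (Φ g j) * ⟪16⟫) * r⁻¹ = l) →
      ∃ g, Cj ψ g (nB i * nB j) l := by
    rintro g i j l ⟨r, e⟩ ⟨r', e'⟩
    exact (md.cz_mul (Φc g i) (Φc g j)).elim (fun h => ⟨_, h.comp (Cj.of' r e)⟩) fun h => ⟨_, h.comp (Cj.of' r' e')⟩
  refine ⟨h1, fun e d e1 e2 e3 d1 d2 => ?_, fun ⟨g, hg⟩ => ?_, fun ⟨g, hg⟩ => ?_⟩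
  · have : Φ d = 1 := by
      by_contra h
      have h3 : Φ d * Φ d ≠ 1 := fun e => h (odd_eq_one (d1.of_dvd_nat (orderOf_map_dvd Φ d)) e)
      exact (fp d h3 e ((Φk e).1 (((d4 _ (Φg d)).resolve_left h3).2.1 _ (Φg e) (by rw [← map_mul, e1, map_one])
        (by rw [← map_mul, d2, map_mul]))) (mul_inv_eq_iff_eq_mul.2 d2)).elim e2 e3
    exact Two.eq_one (GW.Two.of_mem ((pg.to_subgroup _).map ψ) ((Φk d).1 this)) d1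
  · have := (by decide +kernel : ∀ γ ∈ G10, (⟪6⟫ = nB (γ 0) * nB (γ 4) ∨ ⟪6⟫ = nB (γ 0) * nB (γ 4) * ⟪16⟫) →
      ∃ l ∈ [⟪10⟫, ⟪11⟫], (∃ r, r * (nB (γ 0) * nB (γ 3)) * r⁻¹ = l) ∧ ∃ r, r * (nB (γ 0) * nB (γ 3) * ⟪16⟫) * r⁻¹ = l) _ (Φg g)
      (im g 0 4 _ hg)
    simp only [List.mem_cons, List.not_mem_nil, or_false, exists_eq_or_imp, exists_eq_left] at this
    exact this.elim (fun e => (im' g 0 3 _ e.1 e.2).imp fun _ => .inl) fun e => (im' g 0 3 _ e.1 e.2).imp fun _ => .inr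
  obtain ⟨y, hy⟩ : ∃ y, Φ y = x1 := by
    rcases (by decide +kernel : ∀ γ ∈ G10, (⟪10⟫ = nB (γ 0) * nB (γ 3) ∨ ⟪10⟫ = nB (γ 0) * nB (γ 3) * ⟪16⟫) →
      γ = x1 ∨ γ * τ = x1) _ (Φg g) (im g 0 3 _ hg) with e | e
    exacts [⟨g, e⟩, ⟨g * ψ ⟪32⟫, by rw [map_mul, Φt, e]⟩]
  have x3 : x1 * x1 * x1 = 1 := by decide +kernel
  have y1 : Φ (y ^ 4) = x1 := by rw [map_pow, hy]; decide +kernel
  have y2 : y ^ 4 * y ^ 4 * y ^ 4 = 1 := by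
    obtain ⟨k, k1, k2⟩ := (Φk (y * y * y)).1 (by rw [map_mul, map_mul, hy, x3])
    rw [show y ^ 4 * y ^ 4 * y ^ 4 = (y * y * y) ^ 4 by simp only [pow_succ, pow_zero, one_mul, mul_assoc], ← k2, ← map_pow,
      (by decide +kernel : ∀ k ∈ QB, k ^ 4 = 1) k k1, map_one]
  have Φ6 : ∀ g, Φ g ∈ G10.take 6 := fun g => (by decide +kernel : ∀ γ ∈ G10, γ * x1 ∈ G10 → γ ∈ G10.take 6) _ (Φg g)
    (by rw [← hy, ← map_mul]; exact Φg _)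
  refine ⟨im' y 0 4 _ (by rw [hy]; decide +kernel) (by rw [hy]; decide +kernel), y ^ 4, ⟨md.es hi, y2, s.cen _,
    fun q hq => h1.conj_mem q hq _, fp _ (by rw [y1]; decide +kernel)⟩, fun u u1 u2 => (Φk _).1 ?_, fun t t1 t2 l => ?_⟩
  · simp only [map_mul, map_inv, y1]
    exact (by decide +kernel : ∀ γ ∈ G10.take 6, γ * γ = 1 → γ ≠ 1 → γ * (x1 * γ * x1⁻¹) * x1⁻¹ = 1) _ (Φ6 u)
      (by rw [← map_mul, u1, map_one]) fun e => u2 ((Φk u).1 e)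
  · have := (by decide +kernel : ∀ γ ∈ G10.take 6, γ * γ = 1 → γ ≠ 1 → ∀ δ ∈ G10.take 6,
      ∃ k ∈ [1, x1, x1⁻¹, γ, γ * x1, γ * x1⁻¹], δ * k⁻¹ = 1) _ (Φ6 t)
      (by rw [← map_mul, t1, map_one]) (fun e => t2 ((Φk t).1 e)) _ (Φ6 l)
    simp only [List.mem_cons, List.not_mem_nil, or_false, exists_eq_or_imp, exists_eq_left, ← Φk, map_mul, map_inv, y1,
      map_one] at this ⊢
    exact this

end TB

end Cfsg.Lib.M12S
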