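import Cfsg.Agent.Lib.M12S.B1
import Cfsg.Agent.Lib.M12S.G0
import Cfsg.Agent.Lib.Block.ZStar

/-!
# Fusion in simple groups with a Sylow `2`-subgroup of type `M₁₂`
-/

set_option autoImplicit false
set_option linter.unusedSectionVars false
set_option maxRecDepth 100000
set_option synthInstance.maxSize 100000
set_option synthInstance.maxHeartbeats 400000

namespace Cfsg.Lib.M12S.TB

open Subgroup Cfsg.Lib.X32 Cfsg.Lib.Core Cfsg.Lib.BG1 Cfsg.Lib.Invol Cfsg.Lib.GW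
open Cfsg.Lib.Amalg hiding le_cent_symm op_top

universe u

local notation "⟪" n "⟫" => TB.el n

local instance : Fact (Nat.Prime 2) := ⟨Nat.prime_two⟩

variable {G : Type u} [Group G] [Finite G] {ψ : TB →* G} {g h : G} {k l : TB}

instance (k l : TB) : Decidable (k ∈ 𝐂[l]) := decidable_of_iff _ mem_centralizer_singleton_iff.symm

theorem zc : ∀ k : TB, k * ⟪16⟫ = ⟪16⟫ * k := md.zc

theorem fz_sq (hi : Function.Injective ψ) (h : Fz ψ ⟪16⟫ k) : k * k = 1 ∧ k ≠ 1 := by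
  obtain ⟨g, hg⟩ := isConj_iff.1 h
  exact ⟨(Cj.sq hi hg).2 md.zz, Cj.ne hi hg md.z1⟩

theorem fz_ext (hS : Syl 2 ψ.range ⊤) (h : Fz ψ ⟪16⟫ k) : ∃ g, Cj ψ g k ⟪16⟫ ∧ ∀ l, l * k = k * l → ∃ l', Cj ψ g l l' := by
  obtain ⟨g, hg⟩ := isConj_iff.1 (IsConj.symm h)
  obtain ⟨c, -, c1, c2⟩ := cj_into pg (syl_z hS zc) hg
  exact ⟨_, c1, fun l hl => Cj.ex c2 (mem_centralizer_singleton_iff.2 hl)⟩

theorem z_u (hi : Function.Injective ψ) (hS : Syl 2 ψ.range ⊤) (hO : oddCore G = ⊥) (hz : ψ ⟪16⟫ ∉ center G) : Fz ψ ⟪16⟫ ⟪5⟫ := by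
  by_contra hc
  have c5 : ∀ k, k = ⟪5⟫ ∨ k = ⟪21⟫ → ¬ Fz ψ ⟪16⟫ k := by
    rintro _ (rfl | rfl) h
    exacts [hc h, hc (h.cj (Cj.of' ⟪2⟫ (by decide +kernel)))]
  have cQ : ∀ k ∈ QB, Fz ψ ⟪16⟫ k → k = ⟪16⟫ := fun k hk h => by
    by_contra e
    obtain ⟨g, g1, g2⟩ := fz_ext hS h
    obtain ⟨p, p1, q, q1, e1⟩ := (by decide +kernel : ∀ k ∈ QB, k * k = 1 → ∃ p, p * k = k * p ∧ ∃ q, q * k = k * q ∧
      p * q * p⁻¹ * q⁻¹ = ⟪16⟫) k hk (fz_sq hi h).1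
    obtain ⟨p', p2⟩ := g2 p p1
    obtain ⟨q', q2⟩ := g2 q q1
    have e2 := (((p2.mul q2).mul p2.inv).mul q2.inv).cast e1 rfl
    have e3 := Fz.refl.cj e2
    exact c5 _ ((by decide +kernel : ∀ p q : TB, p * q * p⁻¹ * q⁻¹ * (p * q * p⁻¹ * q⁻¹) = 1 → p * q * p⁻¹ * q⁻¹ ≠ 1 →
      p * q * p⁻¹ * q⁻¹ ≠ ⟪16⟫ → p * q * p⁻¹ * q⁻¹ = ⟪5⟫ ∨ p * q * p⁻¹ * q⁻¹ = ⟪21⟫) p' q' (fz_sq hi e3).1 (fz_sq hi e3).2
      fun e' => e (Cj.un' hi g1 (e2.cast rfl e'))) e3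
  refine hz (Block.z_star_center hO ⟨(orderOf_injective ψ hi _).trans (orderOf_eq_prime (by decide +kernel) md.z1), fun g hg => ?_⟩)
  obtain ⟨c, c1, y, hy⟩ := exists_cj' (syl_z hS zc) (e := g * ψ ⟪16⟫ * g⁻¹) (mem_centralizer_singleton_iff.2 hg.symm) (by
    rw [conj_mul, ← map_mul, show ⟪16⟫ * ⟪16⟫ = 1 from md.zz]; simp)
  have f : Fz ψ ⟪16⟫ y := (isConj_iff.2 ⟨g, rfl⟩).trans (isConj_iff.2 ⟨c, hy⟩)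
  obtain rfl : y = ⟪16⟫ := by
    by_contra e
    have hQ : y ∉ QB := fun h => e (cQ y h f)
    obtain ⟨g, g1, g2⟩ := fz_ext hS f
    have t := (by decide +kernel : ∀ y, y ∉ QB → y * y = 1 → (⟪5⟫ * y = y * ⟪5⟫ ∧ ⟪21⟫ * y = y * ⟪21⟫) ∧
      ∀ p, p ∉ QB → p * p = 1 → ∃ r, r * y * r⁻¹ = p) y hQ (fz_sq hi f).1
    have k : ∀ k, k = ⟪5⟫ ∨ k = ⟪21⟫ → k * y = y * k → ∃ p ∈ QB, Cj ψ g k p := fun k h1 h2 => by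
      obtain ⟨p, hp⟩ := g2 k h2
      refine ⟨p, by_contra fun h => ?_, hp⟩
      obtain ⟨r, hr⟩ := t.2 p h ((Cj.sq hi hp).2 (by rcases h1 with rfl | rfl <;> decide +kernel))
      exact c5 k h1 ((f.cj (Cj.of' r hr)).cj hp.symm)
    obtain ⟨p, p1, p2⟩ := k _ (.inl rfl) t.1.1
    obtain ⟨q, q1, q2⟩ := k _ (.inr rfl) t.1.2
    have e2 := (p2.mul q2).cast (show _ = ⟪16⟫ by decide +kernel) rfl
    exact e (Cj.un' hi g1 (e2.cast rfl (cQ _ (mul_mem p1 q1) (Fz.refl.cj e2))))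
  exact (MulAut.conj c).injective (hy.trans (mul_inv_eq_iff_eq_mul.2 (mem_centralizer_singleton_iff.1 c1)).symm)

theorem transfer (hG : ∀ K : Subgroup G, K.index ≠ 2) (hi : Function.Injective ψ) (hS : Syl 2 ψ.range ⊤) {A : Subgroup TB}
    (hA : ∃ a, ∀ b, ¬ (b * a ∈ A ↔ b ∈ A)) {e : G} (he : orderOf e = 2) : ∃ k ∈ A, IsConj e (ψ k) := by
  obtain ⟨g, k, h1, h2⟩ := thompson_transfer' hG (H := ψ.range) (M := A.map ψ) (Nat.odd_iff.2 (Nat.two_dvd_ne_zero.1 hS.not_dvd_index))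
    (by
      rw [MonoidHom.range_eq_map, relIndex_map_map_of_injective _ _ hi, relIndex_top_right, index_eq_two_iff]
      simpa only [xor_iff_not_iff] using hA) he
  exact ⟨k, h1, isConj_iff.2 ⟨g, h2.symm⟩⟩

theorem sq_of (hi : Function.Injective ψ) {e : G} (he : orderOf e = 2) (h : IsConj e (ψ k)) : k * k = 1 ∧ k ≠ 1 := by
  obtain ⟨g, hg⟩ := isConj_iff.1 h
  exact ⟨hi (by rw [map_mul, ← hg, conj_mul, mul_self_of_two he]; simp), fun e => ne_one_of_two he (by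
    rwa [e, map_one, conj_eq_one_iff] at hg)⟩

theorem two_cls (hG : ∀ K : Subgroup G, K.index ≠ 2) (hi : Function.Injective ψ) (hS : Syl 2 ψ.range ⊤) (f : Fz ψ ⟪16⟫ ⟪5⟫)
    {e : G} (he : orderOf e = 2) : (IsConj (ψ ⟪16⟫) e ∨ IsConj (ψ ⟪9⟫) e) ∧ (IsConj (ψ ⟪16⟫) e ∨ IsConj (ψ ⟪6⟫) e) := by
  have k : ∀ k w, IsConj e (ψ k) → (k = ⟪16⟫ ∨ ∃ r, r * k * r⁻¹ = ⟪5⟫ ∨ r * k * r⁻¹ = w) → IsConj (ψ ⟪16⟫) e ∨ IsConj (ψ w) e := by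
    rintro k w h (rfl | ⟨r, e | e⟩)
    exacts [.inl h.symm, .inl (IsConj.trans f (h.trans (Cj.of' r e).isConj).symm), .inr (h.trans (Cj.of' r e).isConj).symm]
  obtain ⟨a, a1, a2⟩ := transfer hG hi hS (A := sg (bm 0xcccccccc33333333) (by decide +kernel)) (by decide +kernel) he
  obtain ⟨b, b1, b2⟩ := transfer hG hi hS (A := sg (bm 0xff00ff0000ff00ff) (by decide +kernel)) (by decide +kernel) he
  exact ⟨k a _ a2 ((by decide +kernel : ∀ k, bm 0xcccccccc33333333 k → k * k = 1 ∧ k ≠ 1 → k = ⟪16⟫ ∨ ∃ r, r * k * r⁻¹ = ⟪5⟫ ∨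
    r * k * r⁻¹ = ⟪9⟫) a a1 (sq_of hi he a2)), k b _ b2 ((by decide +kernel : ∀ k, bm 0xff00ff0000ff00ff k → k * k = 1 ∧ k ≠ 1 →
    k = ⟪16⟫ ∨ ∃ r, r * k * r⁻¹ = ⟪5⟫ ∨ r * k * r⁻¹ = ⟪6⟫) b b1 (sq_of hi he b2))⟩

theorem syl16 (hi : Function.Injective ψ) (hS : Syl 2 ψ.range ⊤) (f : Fz ψ ⟪16⟫ ⟪5⟫) (h : ¬ Fz ψ ⟪16⟫ k) (h1 : k * k = 1 ∧ k ≠ 1)
    (h2 : Nat.card 𝐂[k] = 16) : Syl 2 ((𝐂[k]).map ψ) 𝐂[ψ k] := syl_cent pg hi hS fun g l e => by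
  rw [h2, card_cent]
  refine ((by decide +kernel : ∀ l : TB, l * l = 1 → l ≠ 1 → (l = ⟪16⟫ ∨ ∃ r, r * l * r⁻¹ = ⟪5⟫) ∨
    (Finset.univ.filter fun a => a * l = l * a).card ≤ 16) l ((Cj.sq hi e).2 h1.1) (Cj.ne hi e h1.2)).resolve_left ?_
  rintro (rfl | ⟨r, hr⟩)
  exacts [h (Fz.refl.cj e.symm), h ((f.cj (Cj.of' r hr).symm).cj e.symm)]

/-- The fusion pattern. -/
structure Fu (ψ : TB →* G) : Prop where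
  inj : Function.Injective ψ
  syl : Syl 2 ψ.range ⊤
  f5 : Fz ψ ⟪16⟫ ⟪5⟫
  n9 : ¬ Fz ψ ⟪16⟫ ⟪9⟫
  n6 : ¬ Fz ψ ⟪16⟫ ⟪6⟫
  h96 : ∃ h, Cj ψ h ⟪16⟫ ⟪16⟫ ∧ Cj ψ h ⟪9⟫ ⟪6⟫

theorem fu (hG : ∀ K : Subgroup G, K.index ≠ 2) (hi : Function.Injective ψ) (hS : Syl 2 ψ.range ⊤) (f : Fz ψ ⟪16⟫ ⟪5⟫)
    (h2 : ∃ x y : G, orderOf x = 2 ∧ orderOf y = 2 ∧ ¬ IsConj x y) : Fu ψ := by
  obtain ⟨x, y, x2, y2, xy⟩ := h2
  have n9 : ¬ Fz ψ ⟪16⟫ ⟪9⟫ := fun h => xy (((two_cls hG hi hS f x2).1.elim id (IsConj.trans h)).symm.trans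
    ((two_cls hG hi hS f y2).1.elim id (IsConj.trans h)))
  have n6 : ¬ Fz ψ ⟪16⟫ ⟪6⟫ := fun h => xy (((two_cls hG hi hS f x2).2.elim id (IsConj.trans h)).symm.trans
    ((two_cls hG hi hS f y2).2.elim id (IsConj.trans h)))
  obtain ⟨g, hg⟩ := isConj_iff.1 ((two_cls hG hi hS f (e := ψ ⟪6⟫) ((orderOf_injective ψ hi _).trans
    (orderOf_eq_prime (by decide +kernel) (by decide +kernel)))).1.resolve_left n6)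
  obtain ⟨c, -, c1, c2⟩ := cj_into pg (syl16 hi hS f n6 (by decide +kernel) (by rw [card_cent]; decide +kernel)) hg
  obtain ⟨p, p1, p2⟩ := c2 (conj_mem_cj _ (mem_map_of_mem ψ (show ⟪1⟫ ∈ 𝐂[⟪9⟫] by decide +kernel)))
  have p3 : Cj ψ (c * g) ⟪1⟫ p := p2.symm
  have p4 := (p3.mul p3).cast (show _ = ⟪16⟫ by decide +kernel) rfl
  exact ⟨hi, hS, f, n9, n6, _, p4.cast rfl (((by decide +kernel : ∀ p ∈ 𝐂[⟪6⟫], p * p = 1 ∨ p * p = ⟪16⟫) p p1).resolve_left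
    (Cj.ne hi p4 md.z1)), c1⟩

/-- The structure of the centraliser. -/
structure Gz (ψ : TB →* G) : Prop extends Fu ψ where
  h10 : ∃ h, Cj ψ h ⟪16⟫ ⟪16⟫ ∧ Cj ψ h ⟪5⟫ ⟪10⟫
  h11 : ∃ h, Cj ψ h ⟪16⟫ ⟪16⟫ ∧ Cj ψ h ⟪9⟫ ⟪11⟫
  od : OD (fun _ => True) (ψ ⟪16⟫)
  fr : ∀ h ∈ 𝐂[ψ ⟪16⟫], ∃ o ∈ 𝐎'[2](𝐂[ψ ⟪16⟫]), ∃ n ∈ 𝐍(QB.map ψ), h = o * n
  fp : 𝐎'[2](𝐂[ψ ⟪16⟫]) = ⊥ → ∃ x, FP (QB.map ψ) (ψ ⟪16⟫) x ∧
    (∀ u, u * ψ ⟪16⟫ = ψ ⟪16⟫ * u → u * u = 1 → u ∉ QB.map ψ → u * (x * u * x⁻¹) * x⁻¹ ∈ QB.map ψ) ∧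
    ∀ t, t * ψ ⟪16⟫ = ψ ⟪16⟫ * t → t * t = 1 → t ∉ QB.map ψ → ∀ l, l * ψ ⟪16⟫ = ψ ⟪16⟫ * l →
      ∃ k ∈ [1, x, x⁻¹, t, t * x, t * x⁻¹], l * k⁻¹ ∈ QB.map ψ

theorem Fu.nz (s : Fu ψ) (h : nz l) : ¬ Fz ψ ⟪16⟫ l := fun f => by
  obtain ⟨r, e | e⟩ := (by decide +kernel : ∀ l, TB.nz l → ∃ r, r * l * r⁻¹ = ⟪9⟫ ∨ r * l * r⁻¹ = ⟪6⟫) l h
  exacts [s.n9 (f.cj (Cj.of' r e)), s.n6 (f.cj (Cj.of' r e))]

theorem Fu.gz (s : Fu ψ) : ((∃ h, Cj ψ h ⟪16⟫ ⟪16⟫ ∧ Cj ψ h ⟪5⟫ ⟪10⟫) ∨ ∃ h, Cj ψ h ⟪16⟫ ⟪16⟫ ∧ Cj ψ h ⟪5⟫ ⟪11⟫) ∧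
    ((∃ h, Cj ψ h ⟪16⟫ ⟪16⟫ ∧ Cj ψ h ⟪5⟫ ⟪10⟫) → Gz ψ) := by
  obtain ⟨X, _, _, χ, ρ, h1, h2, h3, h4, ρs, ρk, ρe, h5, h6, h7⟩ := exists_quot pg s.inj s.syl zc md.zz
  obtain ⟨a1, a2, a3, a4⟩ := St.main ⟨h1, h2, h3⟩ (fun g l e h => by
    obtain ⟨g, -, hg⟩ := (h5 _ l (by decide +kernel) ((Cj.sq h1 e).2 (by decide +kernel))).1 ⟨g, e⟩
    exact s.nz h (s.f5.cj hg)) h4
  refine ⟨?_, fun h10 => ?_⟩
  · obtain ⟨g, hg⟩ := a3 ((h5 _ _ (by decide +kernel) (by decide +kernel)).2 s.h96)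
    exact hg.imp (fun hg => (h5 _ _ (by decide +kernel) (by decide +kernel)).1 ⟨g, hg⟩)
      fun hg => (h5 _ _ (by decide +kernel) (by decide +kernel)).1 ⟨g, hg⟩
  obtain ⟨b1, x, b2, b3, b4⟩ := a4 ((h5 _ _ (by decide +kernel) (by decide +kernel)).2 h10)
  refine ⟨s, h10, (h5 _ _ (by decide +kernel) (by decide +kernel)).1 b1, h6 a2, h7 _ a1, fun hO => ?_⟩
  have ρi : Function.Injective ρ := (injective_iff_map_eq_one _).2 fun x hx => Subtype.ext (mem_bot.1 (hO ▸ (ρk x).1 hx))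
  have mQ : ∀ y : 𝐂[ψ ⟪16⟫], ρ y ∈ QB.map χ ↔ y.1 ∈ QB.map ψ := fun y =>
    ⟨fun ⟨k, k1, k2⟩ => ⟨k, k1, congrArg Subtype.val (ρi ((ρe k).trans k2))⟩,
      fun ⟨k, k1, k2⟩ => ⟨k, k1, (ρe k).symm.trans (congrArg ρ (Subtype.ext k2))⟩⟩
  have mc : ∀ {y}, y * ψ ⟪16⟫ = ψ ⟪16⟫ * y → y ∈ 𝐂[ψ ⟪16⟫] := mem_centralizer_singleton_iff.2
  obtain ⟨x, rfl⟩ := ρs x
  refine ⟨x, ⟨md.es s.inj, congrArg Subtype.val (ρi (show ρ (x * x * x) = ρ 1 by simpa using b2.x3)),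
    mul_inv_eq_iff_eq_mul.2 (mem_centralizer_singleton_iff.1 x.2), ?_, ?_⟩, fun u u1 u2 u3 => ?_, fun t t1 t2 t3 l l1 => ?_⟩
  · rintro _ ⟨k, hk, rfl⟩
    exact (mQ (x * ⟨ψ k, mem_cen (zc k)⟩ * x⁻¹)).1 (by simpa [ρe] using b2.xn _ (mem_map_of_mem χ hk))
  · rintro _ ⟨k, hk, rfl⟩ e
    have := b2.fx _ (mem_map_of_mem χ hk) (by rw [← ρe, ← map_inv, ← map_mul, ← map_mul]; exact congrArg ρ (Subtype.ext e))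
    rw [← map_one χ, h1.eq_iff, h1.eq_iff] at this
    rcases this with rfl | rfl <;> simp
  · exact (mQ (⟨u, mc u1⟩ * (x * ⟨u, mc u1⟩ * x⁻¹) * x⁻¹)).1 (by
      simpa using b3 (ρ ⟨u, mc u1⟩) (by rw [← map_mul, ← map_one ρ]; exact congrArg ρ (Subtype.ext u2)) fun e => u3 ((mQ _).1 e))
  · have := b4 (ρ ⟨t, mc t1⟩) (by rw [← map_mul, ← map_one ρ]; exact congrArg ρ (Subtype.ext t2)) (fun e => t3 ((mQ _).1 e))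
      (ρ ⟨l, mc l1⟩)
    simp only [List.mem_cons, List.not_mem_nil, or_false, exists_eq_or_imp, exists_eq_left, ← map_one ρ, ← map_inv, ← map_mul,
      mQ] at this ⊢
    exact this

/-- An automorphism exchanging the classes of `⟪10⟫` and `⟪11⟫`. -/
def α : TB →* TB := MonoidHom.mk' (fun a => el (Nat.shiftRight
  0xbeeb3daeaa399e69358e2831ffef2defae29df6d25cf2c2139f75c29b65819755409345078f34c68b248587144483040 (Nat.mul 6 a.1)))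
  (by decide +kernel)

theorem α_bij : Function.Bijective α := ⟨by unfold Function.Injective; decide +kernel, by unfold Function.Surjective; decide +kernel⟩

theorem exists_gz (hG : ∀ K : Subgroup G, K.index ≠ 2) (hi : Function.Injective ψ) (hS : Syl 2 ψ.range ⊤) (hO : oddCore G = ⊥)
    (hz : center G = ⊥) (h2 : ∃ x y : G, orderOf x = 2 ∧ orderOf y = 2 ∧ ¬ IsConj x y) : ∃ ψ : TB →* G, Gz ψ := by
  have k : ∀ ψ : TB →* G, Function.Injective ψ → Syl 2 ψ.range ⊤ → Fu ψ := fun ψ hi hS =>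
    fu hG hi hS (z_u hi hS hO fun e => md.z1 (hi ((mem_bot.1 (hz ▸ e)).trans ψ.map_one.symm))) h2
  refine (k ψ hi hS).gz.1.elim (fun h => ⟨ψ, (k ψ hi hS).gz.2 h⟩) fun ⟨h, h1, h3⟩ => ⟨_, (k (ψ.comp α) (hi.comp α_bij.1)
    (by rwa [MonoidHom.range_comp, MonoidHom.range_eq_top.2 α_bij.2, ← MonoidHom.range_eq_map])).gz.2
      ⟨h, h1.cast (by decide +kernel) (by decide +kernel), h3.cast (by decide +kernel) (by decide +kernel)⟩⟩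

end Cfsg.Lib.M12S.TB
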