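import Cfsg.Agent.Lib.M12S.B2
import Cfsg.Agent.Lib.X32.M12

/-!
# Simple groups with a Sylow `2`-subgroup of type `M₁₂`
-/

set_option autoImplicit false
set_option linter.unusedSectionVars false
set_option maxRecDepth 100000
set_option synthInstance.maxSize 100000
set_option synthInstance.maxHeartbeats 400000

namespace Cfsg.Lib.M12S.TB

open Subgroup Cfsg.Lib.X32 Cfsg.Lib.Core Cfsg.Lib.BG1 Cfsg.Lib.Invol Cfsg.Lib.GW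
open Cfsg.Lib.Amalg hiding le_cent_symm op_top
open Cfsg.Lib.Transfer (resOf mem_resOf resOf_le le_normalizer_resOf)

universe u

local notation "⟪" n "⟫" => TB.el n

local instance : Fact (Nat.Prime 2) := ⟨Nat.prime_two⟩

variable {G : Type u} [Group G] [Finite G] {ψ : TB →* G} {g h : G} {k l : TB}

abbrev Et : Subgroup TB := sg (bm 0x84218421) (by decide +kernel)
abbrev Ut : Subgroup TB := sg (bm 0x210021) (by decide +kernel)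
abbrev E1 : Subgroup TB := sg (bm 0x48214821) (by decide +kernel)

theorem no8 {n : ℕ} (hn : n < 10) (γ : alternatingGroup (Fin n)) : orderOf γ ≠ 8 := fun h => by
  rw [← orderOf_coe, ← Equiv.Perm.lcm_cycleType] at h
  have h1 : 8 ∈ γ.1.cycleType := by
    by_contra hc
    have : γ.1.cycleType.lcm ∣ 4 := Multiset.lcm_dvd.2 fun m hm => by
      have h2 : m ∣ 8 := h ▸ Multiset.dvd_lcm hm
      have h3 := Nat.le_of_dvd (by norm_num) h2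
      interval_cases m <;> first | omega | exact absurd hm hc
    exact absurd (h ▸ this) (by norm_num)
  obtain ⟨t, ht⟩ := Multiset.exists_cons_of_mem h1
  have h2 := γ.1.sum_cycleType_le
  rw [ht, Multiset.sum_cons, Fintype.card_fin] at h2
  obtain rfl : t = 0 := by
    by_contra hc
    obtain ⟨m, hm⟩ := Multiset.exists_mem_of_ne_zero hc
    have := Equiv.Perm.two_le_of_mem_cycleType (ht ▸ Multiset.mem_cons_of_mem hm)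
    have := Multiset.single_le_sum (fun _ _ => Nat.zero_le _) m hm
    omega
  have := Equiv.Perm.sign_of_cycleType γ.1
  rw [Equiv.Perm.mem_alternatingGroup.1 γ.2, ht] at this
  exact absurd this (by decide)

namespace Gz

variable (s : Gz ψ)
include s

theorem n11 : ¬ Fz ψ ⟪16⟫ ⟪11⟫ := fun f => let ⟨_, _, h⟩ := s.h11; s.n9 (f.cj h.symm)

theorem nzf (h : bm 0x6ac06ac0 l) : ¬ Fz ψ ⟪16⟫ l := fun f => by
  rcases (by decide +kernel : ∀ l, bm 0x6ac06ac0 l → TB.nz l ∨ ∃ r, r * l * r⁻¹ = ⟪11⟫) l h with e | ⟨r, e⟩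
  exacts [s.nz e f, s.n11 (f.cj (Cj.of' r e))]

theorem fE (h : k ∈ Et) (h1 : k ≠ 1) : ∃ r, r * k * r⁻¹ = ⟪16⟫ ∨ r * k * r⁻¹ = ⟪5⟫ ∨ r * k * r⁻¹ = ⟪10⟫ := by
  revert k; decide +kernel

theorem fE' (h : k ∈ Et) (h1 : k ≠ 1) : Fz ψ ⟪16⟫ k := by
  obtain ⟨_, _, h10⟩ := s.h10
  obtain ⟨r, e | e | e⟩ := s.fE h h1
  exacts [Fz.refl.cj (Cj.of' r e).symm, s.f5.cj (Cj.of' r e).symm, (s.f5.cj h10).cj (Cj.of' r e).symm]

theorem two (h : k * k = 1 ∧ k ≠ 1) : orderOf (ψ k) = 2 :=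
  (orderOf_injective ψ s.inj _).trans (orderOf_eq_prime (by rw [pow_two, h.1]) h.2)

theorem kl (h : k * k = 1 ∧ k ≠ 1 ∧ l * l = 1 ∧ l ≠ 1 ∧ l ≠ k ∧ l * k = k * l) : Kl (ψ k) (ψ l) :=
  ⟨s.two ⟨h.1, h.2.1⟩, s.two ⟨h.2.2.1, h.2.2.2.1⟩, s.inj.ne h.2.2.2.2.1, by
    rw [Commute, SemiconjBy, ← map_mul, h.2.2.2.2.2, map_mul]⟩

theorem f32 [IsSimpleGroup G] : Fz ψ ⟪16⟫ ⟪32⟫ := by
  by_contra hc
  rcases Gsm.goldschmidt (A := Et.map ψ) s.syl (fun e => md.z1 (s.inj ((mem_bot.1 (e ▸ mem_map_of_mem ψ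
    (show ⟪16⟫ ∈ Et by decide +kernel))).trans ψ.map_one.symm))) (mulComm_of_forall (by
      rintro _ ⟨a, ha, rfl⟩ _ ⟨b, hb, rfl⟩
      rw [← map_mul, (by decide +kernel : ∀ a ∈ Et, ∀ b ∈ Et, a * b = b * a) a ha b hb, map_mul]))
    ⟨map_le_range _ _, by
      rintro _ ⟨k, hk, rfl⟩ g ⟨l, hl⟩
      by_cases e : k = 1
      · simp [e]
      have f := (s.fE' hk e).cj (Eq.symm hl)
      rcases (by decide +kernel : ∀ l, l * l = 1 → l ∈ Et ∨ bm 0x6ac06ac0 l ∨ ∃ r, r * l * r⁻¹ = ⟪32⟫) l (fz_sq s.inj f).1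
        with e | e | ⟨r, e⟩
      exacts [⟨l, e, hl⟩, (s.nzf e f).elim, (hc (f.cj (Cj.of' r e))).elim]⟩ with h | ⟨H, h⟩
  · exact md.nab (s.inj (by simpa using congrArg Subtype.val (h.1.1 ⟨_, md.n 0, rfl⟩ ⟨_, md.n 1, rfl⟩)))
  · exact s.n9 (se_isConj h (s.two (by decide +kernel)) (s.two (by decide +kernel)))

theorem exists_y (f : Fz ψ ⟪16⟫ ⟪32⟫) : ∃ y, Cj ψ y ⟪11⟫ ⟪11⟫ ∧ Cj ψ y ⟪5⟫ ⟪16⟫ ∧ Cj ψ y ⟪16⟫ ⟪21⟫ ∧
    ∃ c r, Cj ψ y ⟪10⟫ c ∧ r * c * r⁻¹ = ⟪32⟫ := by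
  have hi := s.inj
  obtain ⟨g, g1, g2⟩ := fz_ext s.syl s.f5
  obtain ⟨p, p1⟩ := g2 ⟪1⟫ (by decide +kernel)
  obtain ⟨a, a1⟩ := g2 ⟪11⟫ (by decide +kernel)
  obtain ⟨c, c1⟩ := g2 ⟪10⟫ (by decide +kernel)
  have p2 := (p1.mul p1).cast (show _ = ⟪16⟫ by decide +kernel) rfl
  have p3 := (by decide +kernel : ∀ p : TB, p * p * (p * p) = 1 → p * p ≠ 1 → p * p ≠ ⟪16⟫ → p * p = ⟪5⟫ ∨ p * p = ⟪21⟫) p
    ((Cj.sq hi p2).2 md.zz) (Cj.ne hi p2 md.z1) fun e => absurd (Cj.un' hi g1 (p2.cast rfl e)) (by decide +kernel)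
  generalize p * p = w at p2 p3
  obtain ⟨r, r1, r2⟩ : ∃ r, r * w * r⁻¹ = ⟪21⟫ ∧ r * a * r⁻¹ = ⟪11⟫ := by
    rcases (by decide +kernel : ∀ w, w = ⟪5⟫ ∨ w = ⟪21⟫ → ∀ a, a * a = 1 → a * w = w * a → a ∈ Et ∨ (∃ r, r * a * r⁻¹ = ⟪32⟫) ∨
      ∃ r, r * w * r⁻¹ = ⟪21⟫ ∧ r * a * r⁻¹ = ⟪11⟫) w p3 a ((Cj.sq hi a1).2 (by decide +kernel))
      ((Cj.com hi a1 p2).2 (by decide +kernel)) with e | ⟨r, e⟩ | e
    exacts [(s.n11 ((s.fE' e (Cj.ne hi a1 (by decide +kernel))).cj a1.symm)).elim, (s.n11 ((f.cj (Cj.of' r e).symm).cj a1.symm)).elim, e]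
  have a2 := a1.comp (Cj.of' r r2)
  have p4 := p2.comp (Cj.of' r r1)
  have c2 := c1.comp (Cj.of r c)
  exact ⟨_, a2, g1.comp (Cj.of' r (by rw [zc, mul_inv_cancel_right])), p4, _,
    ((by decide +kernel : ∀ c, c * c = 1 → c * ⟪11⟫ * (c * ⟪11⟫) = ⟪21⟫ → ∃ r, r * c * r⁻¹ = ⟪32⟫) _
      ((Cj.sq hi c2).2 (by decide +kernel)) (((c2.mul a2).mul (c2.mul a2)).uniq hi (p4.cast (by decide +kernel) rfl))).imp
      fun _ e => ⟨c2, e⟩⟩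

theorem inv0 (hP : Syl 2 ((𝐂[⟪11⟫]).map ψ) 𝐂[ψ ⟪11⟫]) (h1 : ψ ⟪16⟫ ∈ resOf 2 𝐂[ψ ⟪11⟫]) (h2 : ψ ⟪5⟫ ∈ resOf 2 𝐂[ψ ⟪11⟫])
    (hk : k ∈ 𝐂[⟪11⟫]) (h : ψ k ∈ resOf 2 𝐂[ψ ⟪11⟫]) : k ∈ Ut := by
  have hi := s.inj
  have hP' := Transfer.sylowIn_iff.2 (syl_iff_not_dvd.1 hP)
  have U0 : ∀ w ∈ Ut, ψ w ∈ resOf 2 𝐂[ψ ⟪11⟫] := fun w hw => by
    rcases (by decide +kernel : ∀ w ∈ Ut, w = 1 ∨ w = ⟪16⟫ ∨ w = ⟪5⟫ ∨ w = ⟪16⟫ * ⟪5⟫) w hw with rfl | rfl | rfl | rfl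
    exacts [map_one ψ ▸ one_mem _, h1, h2, map_mul ψ _ _ ▸ mul_mem h1 h2]
  have mm : ∀ {H : Subgroup TB} {k}, ψ k ∈ H.map ψ ↔ k ∈ H := mem_map_iff_mem hi
  have k1 : ∀ j, j = ⟪13⟫ ∨ j = ⟪6⟫ → ψ j ∉ resOf 2 𝐂[ψ ⟪11⟫] := fun j hj e => by
    have t := (by decide +kernel : ∀ j, j = ⟪13⟫ ∨ j = ⟪6⟫ → j ∈ 𝐂[⟪11⟫] ∧ j ∉ E1 ∧ j * j = 1 ∧ j ≠ 1 ∧ j ≠ ⟪11⟫ ∧
      bm 0x6ac06ac0 j ∧ bm 0x6ac06ac0 (j * ⟪11⟫)) j hj
    obtain ⟨g, g1, q, q1, q2⟩ := tr2 (M := E1.map ψ) hP' (mm.2 t.1) e (mt mm.1 t.2.1) (by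
      rintro _ ⟨a, a1, rfl⟩ _ ⟨b, b1, rfl⟩ - - a2 b2
      rw [← map_mul, mm]
      exact (by decide +kernel : ∀ a ∈ 𝐂[⟪11⟫], ∀ b ∈ 𝐂[⟪11⟫], a ∉ E1 → b ∉ E1 → a * b ∈ E1) a a1 b b1 (mt mm.2 a2) (mt mm.2 b2))
      (by rw [← map_mul, t.2.2.1, map_one])
    have q3 : Cj ψ g j q := q2.symm
    have g2 : Cj ψ g ⟪11⟫ ⟪11⟫ := .of_comm (mem_centralizer_singleton_iff.1 g1)
    rcases (by decide +kernel : ∀ q ∈ E1, q ≠ 1 → q ≠ ⟪11⟫ → q ∈ Et ∨ (q * ⟪11⟫ ∈ Et ∧ q * ⟪11⟫ ≠ 1)) q q1 (Cj.ne hi q3 t.2.2.2.1)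
      (fun e => t.2.2.2.2.1 (Cj.un' hi (q3.cast rfl e) g2)) with e | e
    · exact s.nzf t.2.2.2.2.2.1 ((s.fE' e (Cj.ne hi q3 t.2.2.2.1)).cj q3.symm)
    · exact s.nzf t.2.2.2.2.2.2 ((s.fE' e.1 e.2).cj (q3.mul g2).symm)
  have k2 : ∀ k ∈ 𝐂[⟪11⟫], ψ k ∈ resOf 2 𝐂[ψ ⟪11⟫] → k ∈ E1 := fun k hk h => by
    refine ((by decide +kernel : ∀ k ∈ 𝐂[⟪11⟫], k ∈ E1 ∨ ∃ w ∈ Ut, k * w = ⟪13⟫ ∨ k * w = ⟪6⟫) k hk).resolve_right ?_
    rintro ⟨w, hw, e⟩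
    exact k1 _ e (map_mul ψ _ _ ▸ mul_mem h (U0 w hw))
  refine ((by decide +kernel : ∀ k ∈ E1, k ∈ Ut ∨ ∃ w ∈ Ut, k * w = ⟪11⟫) k (k2 k hk h)).resolve_right ?_
  rintro ⟨w, hw, e⟩
  obtain ⟨g, g1, g2⟩ := tr2 (M := Ut.map ψ) hP' (mm.2 (show ⟪11⟫ ∈ _ by decide +kernel)) (by
    have := mul_mem h (U0 w hw); rwa [← map_mul, e] at this) (mt mm.1 (by decide +kernel)) (by
      rintro _ ⟨a, a1, rfl⟩ _ ⟨b, b1, rfl⟩ a3 b3 a2 b2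
      rw [← map_mul, mm]
      exact (by decide +kernel : ∀ a ∈ E1, ∀ b ∈ E1, a ∉ Ut → b ∉ Ut → a * b ∈ Ut) a (k2 a a1 a3) b (k2 b b1 b3)
        (mt mm.2 a2) (mt mm.2 b2)) (by rw [← map_mul, show ⟪11⟫ * ⟪11⟫ = 1 by decide +kernel, map_one])
  rw [mul_inv_eq_iff_eq_mul.2 (mem_centralizer_singleton_iff.1 g1), mm] at g2
  exact absurd g2 (by decide +kernel)

theorem res_U {y : G} (y1 : Cj ψ y ⟪11⟫ ⟪11⟫) (y2 : Cj ψ y ⟪5⟫ ⟪16⟫) (y3 : Cj ψ y ⟪16⟫ ⟪21⟫) :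
    ψ ⟪16⟫ ∈ resOf 2 𝐂[ψ ⟪11⟫] ∧ ψ ⟪5⟫ ∈ resOf 2 𝐂[ψ ⟪11⟫] := by
  have k : ∀ n : ℕ, (Cj ψ (y ^ 2 ^ n) ⟪5⟫ ⟪16⟫ ∧ Cj ψ (y ^ 2 ^ n) ⟪16⟫ ⟪21⟫) ∨
      (Cj ψ (y ^ 2 ^ n) ⟪5⟫ ⟪21⟫ ∧ Cj ψ (y ^ 2 ^ n) ⟪16⟫ ⟪5⟫) := fun n => by
    induction n with
    | zero => exact .inl ⟨y2.cast' (pow_one y).symm, y3.cast' (pow_one y).symm⟩
    | succ n ih =>
      rw [pow_succ, pow_mul, pow_two]
      rcases ih with ⟨a, b⟩ | ⟨a, b⟩
      · exact .inr ⟨a.comp b, b.comp ((a.mul b).cast (by decide +kernel) (by decide +kernel))⟩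
      · exact .inl ⟨a.comp ((a.mul b).cast (by decide +kernel) (by decide +kernel)), b.comp a⟩
  obtain ⟨n, m, hm, e⟩ := Nat.exists_eq_two_pow_mul_odd (orderOf_pos y).ne'
  have h1 : y ^ 2 ^ n ∈ resOf 2 𝐂[ψ ⟪11⟫] := mem_resOf (pow_mem (mem_centralizer_singleton_iff.2 y1.comm) _)
    (Nat.Coprime.coprime_dvd_left (orderOf_dvd_of_pow_eq_one (n := m) (by rw [← pow_mul, ← e, pow_orderOf_eq_one]))
      (Nat.coprime_two_right.2 hm))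
  have h2 : ∀ p q, p * ⟪11⟫ = ⟪11⟫ * p → Cj ψ (y ^ 2 ^ n) p q → ψ (q * p⁻¹) ∈ resOf 2 𝐂[ψ ⟪11⟫] := fun p q h e => by
    rw [map_mul, ← e, map_inv, mul_assoc, mul_assoc, ← mul_assoc (ψ p)]
    exact mul_mem h1 (conj_mem_norm (le_normalizer_resOf _ (mem_cen h)) (inv_mem h1))
  rcases k n with ⟨a, b⟩ | ⟨a, b⟩
  · have b' := h2 _ _ (by decide +kernel) b
    have := mul_mem (h2 _ _ (by decide +kernel) a) b'
    exact ⟨by rwa [← map_mul] at this, b'⟩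
  · have a' := h2 _ _ (by decide +kernel) a
    have := mul_mem (h2 _ _ (by decide +kernel) b) a'
    exact ⟨a', by rwa [← map_mul] at this⟩

set_option maxHeartbeats 800000 in
theorem kill [IsSimpleGroup G] : 𝐎'[2](𝐂[ψ ⟪16⟫]) = ⊥ := by
  have hi := s.inj
  have mm : ∀ {H : Subgroup TB} {k}, ψ k ∈ H.map ψ ↔ k ∈ H := mem_map_iff_mem hi
  have od : ∀ e, IsConj (ψ ⟪16⟫) e → OD (fun _ => True) e := fun e h => by
    obtain ⟨g, rfl⟩ := isConj_iff.1 h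
    exact s.od.conj g fun _ _ => trivial
  obtain ⟨W1, W2⟩ := signalizer (p := fun _ => True) (E := Et.map ψ) (by
    rintro _ ⟨k, hk, rfl⟩; rw [← map_mul, (by decide +kernel : ∀ k ∈ Et, k * k = 1) k hk, map_one])
    (by rw [card_map_of_injective hi, card_sg]; decide +kernel) (by
      rintro _ ⟨k, hk, rfl⟩ e; exact ⟨trivial, od _ (s.fE' hk fun e' => e (by rw [e', map_one]))⟩)
  have NE := norm_Wf (Et.map ψ)
  generalize Wf (Et.map ψ) = W at W1 W2 NE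
  have z2 := s.two (k := ⟪16⟫) (by decide +kernel)
  have v2 := s.two (k := ⟪11⟫) (by decide +kernel)
  have Wz := W2 _ (mm.2 (show ⟪16⟫ ∈ Et by decide +kernel)) (ne_one_of_two z2)
  by_contra h0
  have hM : 𝐍(W) ≠ ⊤ := fun e => by
    rcases (normalizer_eq_top_iff.1 e).eq_bot_or_eq_top with rfl | rfl
    · exact h0 (Wz ▸ bot_inf_eq _)
    · exact not_two_dvd W1 (z2 ▸ orderOf_dvd_natCard _ (mem_top _))
  have UE : Ut.map ψ ≤ Et.map ψ := map_mono (show ∀ k ∈ Ut, k ∈ Et by decide +kernel)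
  have zu := s.kl (k := ⟪16⟫) (l := ⟪5⟫) (by decide +kernel)
  have NU : 𝐍(Ut.map ψ) ≤ 𝐍(W) := by
    rw [← Wf_eq W1 zu (mm.2 (by decide +kernel)) (mm.2 (by decide +kernel)) (UE.trans (le_normalizer.trans NE))
      fun e he => W2 e (UE he)]
    exact norm_Wf _
  have HM : 𝐂[ψ ⟪16⟫] ≤ 𝐍(W) := fun h hh => by
    obtain ⟨o, o1, n, n1, rfl⟩ := s.fr h hh
    refine mul_mem (le_normalizer (Wz.ge o1).1) (NE (mem_normalizer_of_cj_le (cj_le_iff'.2 ?_)))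
    rintro _ ⟨k, hk, rfl⟩
    obtain ⟨l, l1, l2⟩ := md.exN n1 ((by decide +kernel : ∀ k ∈ Et, k ∈ QB) k hk)
    by_cases e : k = 1
    · simp [e]
    have f := (s.fE' hk e).cj l2
    exact ⟨l, ((by decide +kernel : ∀ l ∈ QB, l * l = 1 → l ∈ Et ∨ bm 0x6ac06ac0 l) l l1 (fz_sq hi f).1).resolve_right
      fun e => s.nzf e f, Eq.symm l2⟩
  have TM : ∀ k, ψ k ∈ 𝐍(W) := fun k => HM (mem_cen (zc k))
  obtain ⟨y, y1, y2, y3, c, r, y4, y5⟩ := s.exists_y s.f32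
  have yM : y ∈ 𝐍(W) := NU (mem_normalizer_of_cj_le (cj_le_iff'.2 (by
    rintro _ ⟨w, hw, rfl⟩
    rcases (by decide +kernel : ∀ w ∈ Ut, w = 1 ∨ w = ⟪16⟫ ∨ w = ⟪5⟫ ∨ w = ⟪16⟫ * ⟪5⟫) w hw with rfl | rfl | rfl | rfl
    exacts [by simp, ⟨_, show ⟪21⟫ ∈ Ut by decide +kernel, Eq.symm y3⟩, ⟨_, show ⟪16⟫ ∈ Ut by decide +kernel, Eq.symm y2⟩,
      ⟨_, show ⟪21⟫ * ⟪16⟫ ∈ Ut by decide +kernel, Eq.symm (y3.mul y2)⟩])))
  have ct : ∀ k, k * k = 1 → k ≠ 1 → ∃ m ∈ 𝐍(W), Cj ψ m k ⟪16⟫ ∨ Cj ψ m k ⟪11⟫ := fun k k1 k2 => by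
    obtain ⟨a, a1, a2⟩ := s.h10
    obtain ⟨b, b1, b2⟩ := s.h11
    obtain ⟨d, d1, d2⟩ := s.h96
    have aM := HM (mem_centralizer_singleton_iff.2 a1.comm)
    have bM := HM (mem_centralizer_singleton_iff.2 b1.comm)
    have dM := HM (mem_centralizer_singleton_iff.2 d1.comm)
    rcases cls k k1 with e | rfl | ⟨t, e⟩
    · exact absurd e k2
    · exact ⟨1, one_mem _, .inl Cj.id⟩
    have t1 := TM t
    rcases e with e | e | e | e | e | e <;> have e := Cj.of' (ψ := ψ) t e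
    exacts [⟨_, mul_mem yM t1, .inl (e.comp y2)⟩, ⟨_, mul_mem yM (mul_mem (inv_mem aM) t1), .inl ((e.comp a2.symm).comp y2)⟩,
      ⟨_, t1, .inr e⟩, ⟨_, mul_mem bM t1, .inr (e.comp b2)⟩, ⟨_, mul_mem bM (mul_mem (inv_mem dM) t1), .inr ((e.comp d2.symm).comp b2)⟩,
      ⟨_, mul_mem yM (mul_mem (inv_mem aM) (mul_mem (inv_mem yM) (mul_mem (inv_mem (TM r)) t1))),
        .inl ((((e.comp (Cj.of' r y5).symm).comp y4.symm).comp a2.symm).comp y2)⟩]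
  have ct' : ∀ e ∈ 𝐍(W), orderOf e = 2 → ∃ m ∈ 𝐍(W), m * e * m⁻¹ = ψ ⟪16⟫ ∨ m * e * m⁻¹ = ψ ⟪11⟫ := fun e e1 e2 => by
    obtain ⟨g, g1, k, hk⟩ := exists_cj' (s.syl.of_le (K := 𝐍(W)) (by rintro _ ⟨k, rfl⟩; exact TM k) le_top) e1 (mul_self_of_two e2)
    obtain ⟨k1, k2⟩ := sq_of hi e2 (isConj_iff.2 ⟨g, hk⟩)
    obtain ⟨m, m1, m2⟩ := ct k k1 k2
    exact ⟨m * g, mul_mem m1 g1, by rwa [show m * g * e * (m * g)⁻¹ = m * (g * e * g⁻¹) * m⁻¹ by group, hk]⟩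
  have cz : ∀ e ∈ 𝐍(W), IsConj (ψ ⟪16⟫) e → ∃ m ∈ 𝐍(W), m * e * m⁻¹ = ψ ⟪16⟫ := fun e e1 e2 => by
    obtain ⟨m, m1, m2⟩ := ct' e e1 (by obtain ⟨g, rfl⟩ := isConj_iff.1 e2; rwa [orderOf_conj])
    exact ⟨m, m1, m2.resolve_right fun e => s.n11 (e2.trans (isConj_iff.2 ⟨m, e⟩))⟩
  have KM : 𝐂[ψ ⟪11⟫] ≤ 𝐍(W) := by
    by_contra hK
    have hP := syl16 hi s.syl s.f5 s.n11 (by decide +kernel) (by rw [card_cent]; decide +kernel)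
    obtain ⟨z0, u0⟩ := s.res_U y1 y2 y3
    have se : IsStronglyEmbedded (𝐍(W).subgroupOf (resOf 2 𝐂[ψ ⟪11⟫])) := by
      refine stronglyEmbedded_iff.2 ⟨fun e => hK ?_, even_iff_two_dvd.2 ?_, fun t g t1 t2 t3 => ?_⟩
      · rw [← (Transfer.sylowIn_iff.2 (syl_iff_not_dvd.1 hP)).resOf_sup]
        exact sup_le (subgroupOf_eq_top.1 e) (by rintro _ ⟨k, -, rfl⟩; exact TM k)
      · have : orderOf (⟨_, z0⟩ : resOf 2 𝐂[ψ ⟪11⟫]) = 2 := (orderOf_coe _).symm.trans z2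
        exact this.symm.dvd.trans (orderOf_dvd_natCard _ (show _ ∈ subgroupOf _ _ from TM _))
      have t4 : orderOf (t : G) = 2 := (orderOf_coe _).trans t1
      have t5 : IsConj (ψ ⟪16⟫) t := by
        obtain ⟨m, m1, m2⟩ := hP.exists_conj_le (isPGroup_zpowers_two t4) (zpowers_le.2 (resOf_le _ t.2))
        obtain ⟨p, p1, p2⟩ := m2 (conj_mem_cj m (mem_zpowers _))
        have p3 : IsConj (t : G) (ψ p) := isConj_iff.2 ⟨m, p2.symm⟩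
        exact IsConj.trans (s.fE' (mm.1 (UE (mm.2 (s.inv0 hP z0 u0 p1 (p2 ▸ conj_mem_norm (le_normalizer_resOf _ m1) t.2)))))
          (sq_of hi t4 p3).2) p3.symm
      obtain ⟨a, a1, a2⟩ := cz _ t2 t5
      obtain ⟨b, b1, b2⟩ := cz _ t3 (t5.trans (isConj_iff.2 ⟨g, rfl⟩))
      have := HM (show b * g * a⁻¹ ∈ _ from mem_centralizer_singleton_iff.2 (mul_inv_eq_iff_eq_mul.1 (by
        nth_rewrite 1 [← a2]; rw [← b2]; simp [mul_assoc])))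
      exact (mul_mem_cancel_left b1).1 ((mul_mem_cancel_right (inv_mem a1)).1 this)
    have Wv : W ⊓ 𝐂[ψ ⟪11⟫] = 𝐎'[2](𝐂[ψ ⟪11⟫]) := by
      refine le_antisymm (le_core_of_se se (resOf_le _) (le_normalizer_resOf _) (odd_card_of_le inf_le_left W1)
        (fun x hx => ⟨le_normalizer hx.1, mem_resOf hx.2 (Nat.coprime_two_right.2 (odd_of_mem W1 hx.1))⟩)
        fun x hx => mem_norm_inf hx.1 (le_normalizer (resOf_le _ hx.2))) (le_inf ?_ (piCoreOf_le' _ _))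
      have k : ∀ k ∈ Ut, k ≠ 1 → 𝐎'[2](𝐂[ψ ⟪11⟫]) ⊓ 𝐂[ψ k] ≤ W := fun k k1 k2 d hd => by
        have t := (by decide +kernel : ∀ k ∈ Ut, ⟪11⟫ ≠ k ∧ ⟪11⟫ * k = k * ⟪11⟫ ∧ k ∈ Et) k k1
        exact ((W2 _ (mm.2 t.2.2) fun e => k2 (hi (e.trans ψ.map_one.symm))).ge (od _ (s.fE' t.2.2 k2) _ trivial (mul_self_of_two v2)
          (ne_one_of_two v2) (hi.ne t.1) (by rw [← map_mul, t.2.1, map_mul]) d (odd_of_mem (odd_core _) hd.1)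
          (mem_centralizer_singleton_iff.1 (piCoreOf_le' _ _ hd.1)) (mem_centralizer_singleton_iff.1 hd.2))).1
      exact zu.gen (odd_core _) (le_norm_piCoreOf_self _ _ (mem_cen (by decide +kernel)))
        (le_norm_piCoreOf_self _ _ (mem_cen (by decide +kernel))) (k _ (by decide +kernel) (by decide +kernel))
        (k _ (by decide +kernel) (by decide +kernel)) (map_mul ψ _ _ ▸ k _ (by decide +kernel) (by decide +kernel))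
    have Wa : ∀ a b, Kl a b → a ∈ 𝐍(W) → b ∈ 𝐍(W) → Wf (closure {a, b}) = W := fun a b k a1 b1 =>
      Wf_eq W1 k (Kl.mem_left a b) (Kl.mem_right a b) (Kl.closure_le a1 b1) fun e e1 e2 => by
        obtain ⟨m, m1, m2⟩ := ct' e (Kl.closure_le a1 b1 e1) (by
          rcases (k.mem_iff e).1 e1 with rfl | rfl | rfl | rfl
          exacts [absurd rfl e2, k.ha, k.hb, k.hab])
        rw [← cj_inj (g := m), cj_inf, cj_of_mem_normalizer m1, cj_core, cj_centralizer_singleton]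
        rcases m2 with m2 | m2 <;> rw [m2]
        exacts [Wz, Wv]
    have cc : ∀ g a b : G, cj g (closure {a, b}) = closure {g * a * g⁻¹, g * b * g⁻¹} := fun g a b => by
      rw [cj_closure, Set.image_pair]; rfl
    refine hK fun k hk => ?_
    have kv : k * ψ ⟪11⟫ * k⁻¹ = ψ ⟪11⟫ := mul_inv_eq_iff_eq_mul.2 (mem_centralizer_singleton_iff.1 hk)
    have vj := s.kl (k := ⟪11⟫) (l := ⟪13⟫) (by decide +kernel)
    have j2 := mul_self_of_two (vj.conj k).hb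
    have jK : k * ψ ⟪13⟫ * k⁻¹ ∈ 𝐂[ψ ⟪11⟫] := mul_mem (mul_mem hk (mem_cen (by decide +kernel))) (inv_mem hk)
    have zK : zpowers (ψ ⟪16⟫ * (k * ψ ⟪13⟫ * k⁻¹)) ≤ 𝐂[ψ ⟪11⟫] := zpowers_le.2 (mul_mem (mem_cen (by decide +kernel)) jK)
    obtain ⟨c, c1, c2, c3, c4⟩ := exists_central_of_not_isConj (mul_self_of_two z2) j2 fun e =>
      s.nzf (l := ⟪13⟫) (by decide +kernel) (e.trans (isConj_iff.2 ⟨k, rfl⟩).symm)
    have cv : Commute c (ψ ⟪11⟫) := mem_centralizer_singleton_iff.1 (zK c4)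
    have c5 : c ≠ ψ ⟪11⟫ := by
      rintro rfl
      obtain ⟨w, w1, e | e⟩ := dih (mul_self_of_two z2) j2 c4
      · exact s.nzf (l := ⟪16⟫ * ⟪11⟫) (by decide +kernel) (isConj_iff.2 ⟨w, by rwa [map_mul]⟩).symm
      · refine s.nzf (l := ⟪13⟫ * ⟪11⟫) (by decide +kernel) (isConj_iff.2 ⟨k⁻¹ * w, ?_⟩)
        have wv : w * ψ ⟪11⟫ * w⁻¹ = ψ ⟪11⟫ := mul_inv_eq_iff_eq_mul.2 (mem_centralizer_singleton_iff.1 (zK w1))
        rw [← conj_mul, wv, ← eq_mul_inv_iff_mul_eq, inv_of_two v2, ← kv, conj_mul] at e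
        rw [show k⁻¹ * w * ψ ⟪16⟫ * (k⁻¹ * w)⁻¹ = k⁻¹ * (w * ψ ⟪16⟫ * w⁻¹) * k by group, e, map_mul]; group
    have vc : Kl (ψ ⟪11⟫) c := ⟨v2, c1, c5, cv⟩
    have c6 : k⁻¹ * c * k⁻¹⁻¹ ∈ 𝐍(W) := by
      rw [← Wa _ _ vj (TM _) (TM _)]
      refine norm_Wf _ (cj_eq_self_iff.1 ?_)
      rw [inv_inv, cj_mul, cj_mul, cc, kv, cc, cv.eq, c3.eq, mul_inv_cancel_right, mul_inv_cancel_right]
      nth_rewrite 1 [← kv]
      rw [← cc, cj_inv_cj]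
    have e1 := Wa _ _ (vc.conj k⁻¹) (by nth_rewrite 1 [← kv]; simpa [mul_assoc] using TM ⟪11⟫) c6
    rw [← cc, ← cj_Wf, Wa _ _ vc (TM _) (HM (mem_centralizer_singleton_iff.2 c2))] at e1
    exact (inv_mem_iff (H := 𝐍(W))).1 (cj_eq_self_iff.1 e1)
  exact hM (gen_top (Transfer.sylowIn_iff.2 (syl_iff_not_dvd.1 s.syl)) (by rintro _ ⟨k, rfl⟩; exact TM k) (mul_self_of_two z2)
    (mul_self_of_two v2) s.n11 (fun g e => HM (mem_centralizer_singleton_iff.2 e)) (fun g e => KM (mem_centralizer_singleton_iff.2 e))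
    (by rintro _ ⟨k, rfl⟩ k1 k2; exact ct k (hi (by rw [map_mul, k1, map_one])) fun e => k2 (by rw [e, map_one])) (ne_one_of_two z2))

theorem main [IsSimpleGroup G] : Spor.IsoM12 G := by
  have hO := s.kill
  obtain ⟨x, h1, h2, h3⟩ := s.fp hO
  obtain ⟨g, hg⟩ := isConj_iff.1 s.f5
  have o8 : ∀ {n : ℕ}, (∀ γ : alternatingGroup (Fin n), orderOf γ ≠ 8) → ¬ Nonempty (G ≃* alternatingGroup (Fin n)) :=
    fun h ⟨e⟩ => h (e (ψ ⟪34⟫)) (by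
      rw [MulEquiv.orderOf_eq, orderOf_injective ψ s.inj]
      exact orderOf_eq_prime_pow (p := 2) (n := 2) (by decide +kernel) (by decide +kernel))
  rcases h1.main (by rw [card_map_of_injective s.inj]; exact md.card) (fun l hl q hq => by
    obtain ⟨o, o1, n, n1, rfl⟩ := s.fr l (mem_centralizer_singleton_iff.2 hl)
    rw [mem_bot.1 (hO.le o1), one_mul]; exact conj_mem_norm n1 hq) h2 h3 (g := g) (hg ▸ mem_map_of_mem ψ (show ⟪5⟫ ∈ QB by decide +kernel))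
    (hg ▸ s.inj.ne (by decide +kernel)) with ⟨N, hn, h4, -, h5, -⟩ | h | h | h
  · rcases hn.eq_bot_or_eq_top with rfl | rfl
    · simp at h5
    · exact (md.nab (s.inj (by simpa using congrArg Subtype.val (h4.1.1 ⟨ψ (md.n 0), trivial⟩ ⟨ψ (md.n 1), trivial⟩)))).elim
  · exact (o8 (no8 (by norm_num)) h).elim
  · exact (o8 (no8 (by norm_num)) h).elim
  · exact h

end Gz

theorem isoM12 [IsSimpleGroup G] (hi : Function.Injective ψ) (hS : Syl 2 ψ.range ⊤)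
    (h2 : ∃ x y : G, orderOf x = 2 ∧ orderOf y = 2 ∧ ¬ IsConj x y) : Spor.IsoM12 G := by
  have hG : ¬ IsMulCommutative G := fun h => md.nab (hi (by rw [map_mul, map_mul, h.1.1]))
  obtain ⟨ψ, s⟩ := exists_gz (fun K hK => by
    have := normal_of_index_eq_two hK
    rcases this.eq_bot_or_eq_top with rfl | rfl
    · have := card_le_of_le (le_top (a := ψ.range))
      rw [index_bot] at hK
      rw [card_top, hK, ← Nat.card_congr (MonoidHom.ofInjective hi).toEquiv, card] at this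
      omega
    · simp at hK) hi hS (Exc.oddCore_eq_bot hG) ((IsSimpleGroup.eq_bot_or_eq_top_of_normal (center G) inferInstance).resolve_right
      fun e => hG ⟨⟨fun a b => mem_center_iff.1 (e.ge (mem_top b)) a⟩⟩) h2
  exact s.main

end Cfsg.Lib.M12S.TB
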