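import Cfsg.Agent.Lib.M12S.PG
import Cfsg.Agent.Lib.M12S.B3

/-!
# Sylow `2`-subgroups of order `64` with a self-centralising rational element of order `8`
-/

set_option autoImplicit false
set_option linter.unusedSectionVars false
set_option maxRecDepth 100000
set_option synthInstance.maxSize 100000

namespace Cfsg.Lib.M12S

open Subgroup Cfsg.Lib.X32 Cfsg.Lib.Core Cfsg.Lib.BG1 Cfsg.Lib.Invol Cfsg.Lib.GW
open Cfsg.Lib.Amalg hiding le_cent_symm op_top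

universe u

local instance : Fact (Nat.Prime 2) := ⟨Nat.prime_two⟩

variable {G : Type u} [Group G] [Finite G]

theorem PG.c0 {c : Fin 8} {ψ : PG c →* G} (hi : Function.Injective ψ) (hS : Syl 2 ψ.range ⊤) (hO : oddCore G = ⊥)
    (hz : ψ (el 4) ∉ center G) : c = 0 := by
  obtain ⟨d1, d2, d3, d4, d5, -, d6⟩ := fD c
  have sq : ∀ {k}, Fz ψ (el 4) k → k * k = 1 ∧ k ≠ 1 := fun h => by
    obtain ⟨g, hg⟩ := isConj_iff.1 h
    exact ⟨(Cj.sq hi hg).2 d1, Cj.ne hi hg d2⟩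
  have ext : ∀ {k}, Fz ψ (el 4) k → ∃ g, Cj ψ g k (el 4) ∧ ∀ l, l * k = k * l → ∃ l', Cj ψ g l l' := fun h => by
    obtain ⟨g, hg⟩ := isConj_iff.1 (IsConj.symm h)
    obtain ⟨c, -, c1, c2⟩ := cj_into pg (syl_z hS (zc c)) hg
    exact ⟨_, c1, fun l hl => Cj.ex c2 (mem_centralizer_singleton_iff.2 hl)⟩
  have sr : ∀ {g y p p'}, Cj ψ g y (el 4) → y ≠ el 4 → p * p = el 4 → Cj ψ g p p' →
      Cj ψ g (el 4) (p' * p') ∧ (p' * p' = el 8 ∨ p' * p' = el 12) := fun {g y p p'} h1 h2 h3 h4 => by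
    have e := (h4.mul h4).cast h3 rfl
    exact ⟨e, ((fB c p' ((Cj.sq hi e).2 d1)).resolve_left (Cj.ne hi e d2)).resolve_left fun e' => h2 (Cj.un' hi h1 (e.cast rfl e'))⟩
  have f8 : Fz ψ (el 4) (el 8) := by
    by_contra hc
    have c5 : ∀ k, k = el 8 ∨ k = el 12 → ¬ Fz ψ (el 4) k := by
      rintro _ (rfl | rfl) h
      exacts [hc h, hc (h.cj (Cj.of' _ d4))]
    have cA : ∀ y, Fz ψ (el 4) y → y ≠ el 4 → (el 8 * y = y * el 8 ∧ el 12 * y = y * el 12) ∧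
        ∀ p, p * y = y * p → U p ∨ ∃ r, r * y * r⁻¹ = p := fun y h e => by
      refine (fA c y (sq h).1).resolve_left fun ⟨p, p1, p2⟩ => ?_
      obtain ⟨g, g1, g2⟩ := ext h
      obtain ⟨p', p3⟩ := g2 p p1
      exact c5 _ (sr g1 e p2 p3).2 (Fz.refl.cj (sr g1 e p2 p3).1)
    refine hz (Block.z_star_center hO ⟨(orderOf_injective ψ hi _).trans (orderOf_eq_prime (by rwa [pow_two]) d2), fun g hg => ?_⟩)
    obtain ⟨a, a1, y, hy⟩ := exists_cj' (syl_z hS (zc c)) (e := g * ψ (el 4) * g⁻¹) (mem_centralizer_singleton_iff.2 hg.symm) (by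
      rw [conj_mul, ← map_mul, d1]; simp)
    have f : Fz ψ (el 4) y := (isConj_iff.2 ⟨g, rfl⟩).trans (isConj_iff.2 ⟨a, hy⟩)
    obtain rfl : y = el 4 := by
      by_contra e
      obtain ⟨g, g1, g2⟩ := ext f
      obtain ⟨p, p1⟩ := g2 _ (cA y f e).1.1
      obtain ⟨q, q1⟩ := g2 _ (cA y f e).1.2
      have e2 := (p1.mul q1).cast d5 rfl
      have e3 : p * q ≠ el 4 := fun e' => e (Cj.un' hi g1 (e2.cast rfl e'))
      have k : ∀ k p', k = el 8 ∨ k = el 12 → Cj ψ g k p' → U p' := fun k p' h1 h2 =>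
        ((cA _ (Fz.refl.cj e2) e3).2 p' ((Cj.com hi h2 e2).2 (zc c k))).resolve_right fun ⟨r, hr⟩ =>
          c5 k h1 (((Fz.refl.cj e2).cj (Cj.of' r hr)).cj h2.symm)
      exact c5 _ (((d6 p q (k _ _ (.inl rfl) p1) (k _ _ (.inr rfl) q1)).resolve_left (Cj.ne hi e2 d2)).resolve_left e3) (Fz.refl.cj e2)
    exact (MulAut.conj a).injective (hy.trans (mul_inv_eq_iff_eq_mul.2 (mem_centralizer_singleton_iff.1 a1)).symm)
  by_contra hc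
  obtain ⟨a, ⟨a1, a2⟩, b, ⟨b1, b2⟩, h⟩ := fC c hc
  obtain ⟨g, g1, g2⟩ := ext f8
  obtain ⟨p, p1⟩ := g2 a a1
  obtain ⟨q, q1⟩ := g2 b b1
  exact h p (sr g1 d3.symm a2 p1).2 q ((sr g1 d3.symm b2 q1).1.uniq hi (sr g1 d3.symm a2 p1).1) (Cj.com hi p1 q1)

theorem exists_rel (h2 : IsPGroup 2 G) (hc : Nat.card G = 64) {f : G} (hf : orderOf f = 8)
    (hs : ∀ x, x * f = f * x → x ∈ zpowers f) {x3 x5 x7 : G} (h3 : x3 * f * x3⁻¹ = f ^ 3) (h5 : x5 * f * x5⁻¹ = f ^ 5)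
    (h7 : x7 * f * x7⁻¹ = f ^ 7) : ∃ s i q w x y, Rel s i q f w x y := by
  have pe : ∀ a b : ℕ, f ^ a = f ^ b ↔ a % 8 = b % 8 := fun a b => by rw [pow_eq_pow_iff_modEq, hf]; rfl
  have p1 : ∀ a : ℕ, f ^ a = 1 ↔ a % 8 = 0 := fun a => by rw [← pow_zero f, pe]
  have p0 : ∀ a : ℕ, f ^ a = f ↔ a % 8 = 1 := fun a => by nth_rewrite 2 [← pow_one f]; rw [pe]
  have mF : ∀ x ∈ zpowers f, ∃ i < 8, x = f ^ i := fun x hx => by
    obtain ⟨i, rfl⟩ := (mem_powers_iff_mem_zpowers.2 hx :)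
    exact ⟨i % 8, Nat.mod_lt _ (by norm_num), (pe _ _).2 (by omega)⟩
  have cF : ∀ x, x * f * x⁻¹ = f → ∃ i < 8, x = f ^ i := fun x h => mF x (hs x (mul_inv_eq_iff_eq_mul.1 h))
  have cp : ∀ {x : G} {k : ℕ}, x * f * x⁻¹ = f ^ k → ∀ i, x * f ^ i * x⁻¹ = f ^ (k * i) := fun h i => by rw [← conj_pow, h, pow_mul]
  have cp' : ∀ {x : G} {k : ℕ}, x * f * x⁻¹ = f ^ k → ∀ i, x * f ^ i = f ^ (k * i) * x := fun h i =>
    mul_inv_eq_iff_eq_mul.1 (cp h i)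
  have nF : ∀ n ∈ 𝐍(zpowers f), ∃ k, (k = 1 ∨ k = 3 ∨ k = 5 ∨ k = 7) ∧ n * f * n⁻¹ = f ^ k := fun n hn => by
    obtain ⟨k, k1, k2⟩ := mF _ (conj_mem_norm hn (mem_zpowers f))
    refine ⟨k, ?_, k2⟩
    have : ¬ (k * 4) % 8 = 0 := fun e => by
      have := (cp k2 4).trans ((p1 _).2 e)
      rw [conj_eq_one_iff, p1] at this; omega
    omega
  have Nm : ∀ {x : G} {k : ℕ}, x * f * x⁻¹ = f ^ k → x ∈ 𝐍(zpowers f) := fun h =>
    mem_normalizer_of_cj_le (by rw [cj_zpowers, h]; exact zpowers_le.2 (pow_mem (mem_zpowers f) _))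
  have dv : ∀ {a b : G} {k : ℕ}, a * f * a⁻¹ = f ^ k → b * f * b⁻¹ = f ^ k → ∃ i < 8, a = f ^ i * b := fun {a b k} h h' => by
    obtain ⟨i, i1, i2⟩ := cF (b⁻¹ * a) (by
      rw [show b⁻¹ * a * f * (b⁻¹ * a)⁻¹ = b⁻¹ * (a * f * a⁻¹) * b by group, h, ← h']; group)
    exact ⟨(k * i) % 8, Nat.mod_lt _ (by norm_num), by rw [(pe _ (k * i)).2 (by omega), ← cp' h', ← i2]; group⟩
  have cm : ∀ {a b : G} {k l : ℕ}, a * f * a⁻¹ = f ^ k → b * f * b⁻¹ = f ^ l → a * b * f * (a * b)⁻¹ = f ^ (k * l) := fun {a b k l} h h' => by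
    rw [← cp h, ← h']; group
  have f1 : f * f * f⁻¹ = f ^ 1 := by simp
  have ci : ∀ {x : G} {k : ℕ}, x * f * x⁻¹ = f ^ k → (k * k) % 8 = 1 → x⁻¹ * f * x⁻¹⁻¹ = f ^ k := fun {x k} h e => by
    nth_rewrite 1 [← (p0 _).2 e, ← cp h]; group
  have cf : ∀ i : ℕ, f ^ i * f * (f ^ i)⁻¹ = f ^ 1 := fun i => by group
  have hN : 𝐍(zpowers f) < ⊤ := lt_top_iff_ne_top.2 fun e => by
    have := Nat.card_le_card_of_surjective (fun p : Fin 8 × Fin 4 => f ^ p.1.1 * ![1, x3, x5, x7] p.2) fun n => by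
      obtain ⟨k, rfl | rfl | rfl | rfl, e⟩ := nF n (e.ge trivial)
      · obtain ⟨i, i1, e⟩ := dv e (b := 1) (by simp); exact ⟨(⟨i, i1⟩, 0), e.symm⟩
      · obtain ⟨i, i1, e⟩ := dv e h3; exact ⟨(⟨i, i1⟩, 1), e.symm⟩
      · obtain ⟨i, i1, e⟩ := dv e h5; exact ⟨(⟨i, i1⟩, 2), e.symm⟩
      · obtain ⟨i, i1, e⟩ := dv e h7; exact ⟨(⟨i, i1⟩, 3), e.symm⟩
    simp [hc] at this
  have fN : f ∈ 𝐍(zpowers f) := Nm f1
  obtain ⟨y, y1, y2, y3⟩ : ∃ y ∈ 𝐍(𝐍(zpowers f)), y * f * y⁻¹ * f * (y * f * y⁻¹)⁻¹ = f ^ 5 ∧ y * f * y⁻¹ * (y * f * y⁻¹) = f ^ 6 := by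
    have st : ∀ y ∈ 𝐍(𝐍(zpowers f)), y ∉ 𝐍(zpowers f) → y * f * y⁻¹ * f * (y * f * y⁻¹)⁻¹ = f ^ 5 ∧
        (y * f * y⁻¹ * (y * f * y⁻¹) = f ^ 2 ∨ y * f * y⁻¹ * (y * f * y⁻¹) = f ^ 6) := fun y y1 y2 => by
      obtain ⟨k, k1, k2⟩ := nF _ (conj_mem_norm y1 fN)
      have k3 : k ≠ 1 := by
        rintro rfl
        obtain ⟨i, -, e⟩ := cF _ (k2.trans (pow_one f))
        exact y2 (Nm e)
      obtain ⟨i, i1, i2⟩ := cF _ ((cm k2 k2).trans ((p0 _).2 (by rcases k1 with rfl | rfl | rfl | rfl <;> rfl)))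
      have e1 := cp k2 i
      rw [← i2, ← mul_assoc, mul_assoc _ (y * f * y⁻¹), mul_inv_cancel, mul_one, i2, pe] at e1
      have e2 : ∀ n : ℕ, (i * n) % 8 = 0 ↔ (2 * n) % 8 = 0 := fun n => by
        rw [← p1, ← p1, pow_mul, ← i2, ← pow_two, ← pow_mul, conj_pow, conj_eq_one_iff]
      have e3 := e2 2
      have e4 := e2 4
      obtain rfl | rfl : i = 2 ∨ i = 6 := by omega
      · obtain rfl : k = 5 := by omega
        exact ⟨k2, .inl i2⟩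
      · obtain rfl : k = 5 := by omega
        exact ⟨k2, .inr i2⟩
    obtain ⟨y, ⟨-, y1⟩, y2⟩ := SetLike.exists_of_lt (lt_inf_normalizer_of_lt (h2.to_subgroup ⊤) hN)
    obtain ⟨e1, e | e⟩ := st y y1 y2
    · have y3 := mul_mem y1 (le_normalizer (Nm h7))
      refine ⟨_, y3, (st _ y3 fun e => y2 ((mul_mem_cancel_right (Nm h7)).1 e)).1, ?_⟩
      rw [show y * x7 * f * (y * x7)⁻¹ = y * (x7 * f * x7⁻¹) * y⁻¹ by group, h7, ← conj_pow, ← (Commute.refl _).mul_pow, e, ← pow_mul, pe]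
    · exact ⟨y, y1, e1, e⟩
  obtain ⟨w, yf⟩ : ∃ w, y * f * y⁻¹ = f * w := ⟨f⁻¹ * (y * f * y⁻¹), by group⟩
  rw [yf] at y2 y3
  have wf : w * f * w⁻¹ = f ^ 5 := by
    rw [← mul_left_cancel_iff (a := f), ← mul_right_cancel_iff (a := f⁻¹), show f * f ^ 5 * f⁻¹ = f ^ 5 by group, ← y2]; group
  have wf' : w * f = f ^ 5 * w := mul_inv_eq_iff_eq_mul.1 wf
  have ww : w * w = 1 := by
    rw [mul_assoc, ← mul_assoc w, wf', ← mul_assoc, ← mul_assoc, ← pow_succ', mul_assoc] at y3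
    exact mul_eq_left.1 y3
  have wF : ∀ a b : ℕ, f ^ a * w ≠ f ^ b := fun a b e => by
    rw [← eq_inv_mul_iff_mul_eq] at e
    rw [e, show (f ^ a)⁻¹ * f ^ b * f * ((f ^ a)⁻¹ * f ^ b)⁻¹ = f by group, eq_comm, p0] at wf
    omega
  have i5 : ∀ a, a * f * a⁻¹ = f ^ 5 → a * a = 1 → a = w ∨ a = f ^ 4 * w := fun a h e => by
    obtain ⟨i, i1, rfl⟩ := dv h wf
    rw [mul_assoc, ← mul_assoc w, cp' wf, mul_assoc, ww, mul_one, ← pow_add, p1] at e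
    obtain rfl | rfl : i = 0 ∨ i = 4 := by omega
    · simp
    · exact .inr rfl
  have fw : f * w * f⁻¹ = f ^ 4 * w := by
    rw [mul_inv_eq_iff_eq_mul, mul_assoc, wf', ← mul_assoc, ← pow_add, (p0 _).2 rfl]
  obtain ⟨x, xf, xw⟩ : ∃ x, x * f * x⁻¹ = f ^ 7 ∧ x * w * x⁻¹ = w := by
    rcases i5 (x7 * w * x7⁻¹) ((cm (cm h7 wf) (ci h7 rfl)).trans ((pe _ _).2 rfl)) (by rw [conj_mul, ww]; simp) with e | e
    · exact ⟨x7, h7, e⟩
    · refine ⟨x7 * f, cm h7 f1, ?_⟩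
      rw [show x7 * f * w * (x7 * f)⁻¹ = x7 * (f * w * f⁻¹) * x7⁻¹ by group, fw, ← conj_mul, cp h7, e, ← mul_assoc, ← pow_add,
        (p1 _).2 rfl, one_mul]
  have y6 : ∀ {y : G}, y * f * y⁻¹ = f * w → ∀ i : ℕ, y * f ^ (2 * i) * y⁻¹ = f ^ (6 * i) := fun h i => by
    rw [pow_mul, ← conj_pow, pow_two, ← conj_mul, h, y3, pow_mul]
  obtain ⟨y, yf, yw⟩ : ∃ y, y * f * y⁻¹ = f * w ∧ y * w * y⁻¹ = w := by
    obtain ⟨k, k1, k2⟩ := nF _ (conj_mem_norm y1 (Nm wf))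
    have e1 := cp k2 6
    have e2 : y * w * y⁻¹ * (y * w * y⁻¹) = 1 := by rw [conj_mul, ww]; simp
    rw [← y6 yf 1, conj_mul, conj_inv, conj_mul, cp wf, show 5 * (2 * 1) = 2 * 5 from rfl, y6 yf, pe] at e1
    obtain rfl | rfl : k = 1 ∨ k = 5 := by omega
    · obtain ⟨i, i1, e⟩ := cF _ (k2.trans (pow_one f))
      rw [e, ← pow_add, p1] at e2
      obtain ⟨j, rfl⟩ : ∃ j, i = 4 * j := ⟨i / 4, by omega⟩
      rw [(pe _ (6 * (2 * j))).2 (by omega), ← y6 yf, mul_left_inj, mul_right_inj] at e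
      exact absurd (by rw [pow_zero, one_mul]; exact e) (wF 0 (2 * (2 * j)))
    rcases i5 _ k2 e2 with e | e
    · exact ⟨y, yf, e⟩
    · refine ⟨y * f, by rw [← yf]; group, ?_⟩
      rw [show y * f * w * (y * f)⁻¹ = y * (f * w * f⁻¹) * y⁻¹ by group, fw, ← conj_mul, y6 yf 2, e, ← mul_assoc, ← pow_add,
        (p1 _).2 rfl, one_mul]
  have f4 : ∀ {a : G} {i : ℕ}, a = f ^ i → i = 0 ∨ i = 4 → ∃ s, a = cond s (f * f * (f * f)) 1 := by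
    rintro _ _ rfl (rfl | rfl)
    exacts [⟨false, pow_zero f⟩, ⟨true, by simp only [pow_succ, pow_zero, one_mul, mul_assoc, cond]⟩]
  obtain ⟨q, yy⟩ : ∃ q, y * y = cond q (f * f * (f * f)) 1 := by
    obtain ⟨i, i1, e⟩ := cF (y * y) (by
      rw [show y * y * f * (y * y)⁻¹ = y * (y * f * y⁻¹) * y⁻¹ by group, yf, ← conj_mul, yf, yw, mul_assoc, ww, mul_one])
    have e1 : y * f ^ i * y⁻¹ = f ^ i := by rw [← e]; group
    refine f4 e ?_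
    obtain ⟨j, rfl | rfl⟩ := Nat.even_or_odd' i
    · rw [y6 yf, pe] at e1; omega
    · rw [pow_succ, ← conj_mul, y6 yf, yf, ← mul_assoc, ← pow_succ, ← pow_succ] at e1
      exact absurd e1 (wF _ _)
  have fin : ∀ x, x * f * x⁻¹ = f ^ 7 → x * w * x⁻¹ = w → ∀ i, y * x * y⁻¹ = cond i (f * f) 1 * w * x →
      ∃ s i q w x y, Rel s i q f w x y := fun x xf xw i e => by
    obtain ⟨j, j1, j2⟩ := cF _ ((cm xf xf).trans ((p0 _).2 rfl))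
    have e1 := cp xf j
    rw [← j2, ← mul_assoc, mul_assoc _ x, mul_inv_cancel, mul_one, j2, pe] at e1
    obtain ⟨s, hs⟩ := f4 j2 (by omega)
    have f8 := (p1 8).2 rfl
    exact ⟨s, i, q, w, x, y, by rw [← f8]; simp only [pow_succ, pow_zero, one_mul, mul_assoc], ww,
      by rw [wf]; simp only [pow_succ, pow_zero, one_mul, mul_assoc], hs, xf.trans (eq_inv_of_mul_eq_one_left (by rwa [← pow_succ])),
      xw, yy, yf, yw, e⟩
  have e1 : y * x * y⁻¹ * w * (y * x * y⁻¹)⁻¹ = w := by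
    nth_rewrite 1 [← yw]; rw [conj_mul, conj_inv, conj_mul, xw, yw]
  have e2 : y * x * y⁻¹ * f * (y * x * y⁻¹)⁻¹ = f ^ 3 := by
    rw [← mul_left_inj w]
    nth_rewrite 1 [← e1]
    rw [conj_mul, ← yf, conj_mul, conj_inv, conj_mul, xf, pow_succ, ← conj_mul, y6 yf 3, yf, ← mul_assoc, ← pow_succ, mul_left_inj, pe]
  obtain ⟨i, i1, i2⟩ := dv e2 ((cm wf xf).trans ((pe _ _).2 rfl))
  have xw' := mul_inv_eq_iff_eq_mul.1 xw
  rw [mul_inv_eq_iff_eq_mul, i2, ← mul_assoc w, cp' wf, mul_assoc, mul_assoc, xw', mul_assoc, mul_left_inj, pe] at e1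
  have k : ∀ j, y * x * y⁻¹ = f ^ (j + 4) * (w * x) → y * (x * f ^ 2) * y⁻¹ = f ^ j * w * (x * f ^ 2) := fun j e => by
    rw [← conj_mul, e, y6 yf 1, mul_assoc, mul_assoc, cp' xf, cp' xf, ← mul_assoc w, mul_assoc _ w, ← mul_assoc w, cp' wf, cp' wf]
    simp only [← mul_assoc, ← pow_add, mul_left_inj, pe]
    omega
  have k1 : x * f ^ 2 * w * (x * f ^ 2)⁻¹ = w := by
    rw [show x * f ^ 2 * w * (x * f ^ 2)⁻¹ = x * (f ^ 2 * w * (f ^ 2)⁻¹) * x⁻¹ by group, (pe 2 (5 * 2)).2 rfl, ← cp' wf,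
      (pe (5 * 2) 2).2 rfl, mul_inv_cancel_right, xw]
  obtain rfl | rfl | rfl | rfl : i = 0 ∨ i = 2 ∨ i = 4 ∨ i = 6 := by omega
  · exact fin x xf xw false (by simpa using i2)
  · exact fin x xf xw true (by rw [i2, pow_two, mul_assoc _ w]; rfl)
  · exact fin _ (cm xf (cf 2)) k1 false (by simpa using k 0 i2)
  · exact fin _ (cm xf (cf 2)) k1 true (by rw [k 2 i2, pow_two f]; rfl)

end Cfsg.Lib.M12S
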