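import Cfsg.Agent.Lib.M12S.Tab
import Cfsg.Agent.Lib.Block.ScnA
import Cfsg.Agent.Lib.Block.IsoElt
import Cfsg.Agent.Lib.Fus2.Model
import Cfsg.Agent.Lib.Known2.ES

/-!
# The action on the six nonsingular vectors of `2^(1+4)_+`
-/

set_option autoImplicit false
set_option linter.unusedSectionVars false

namespace Cfsg.Lib.M12S

open Subgroup Cfsg.Lib.X32 Cfsg.Lib.Amalg Cfsg.Lib.Block.Scn Cfsg.Lib.Gsm Cfsg.Lib.Core Equiv
open Cfsg.Lib.Wal (CB)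

universe u

variable {M : Type} [Group M] {X : Type u} [Group X] [Finite X] {ψ : M →* X} {g h : X} {k l k' l' z : M}

theorem Cj.un' (hi : Function.Injective ψ) (a : Cj ψ g k l) (b : Cj ψ g k' l) : k = k' := a.symm.uniq hi b.symm
theorem Cj.com (hi : Function.Injective ψ) (a : Cj ψ g k l) (b : Cj ψ g k' l') : l * l' = l' * l ↔ k * k' = k' * k :=
  ⟨fun e => Cj.un' hi (a.mul b) ((b.mul a).cast rfl e.symm), fun e => (a.mul b).uniq hi ((b.mul a).cast e.symm rfl)⟩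
theorem Cj.sq (hi : Function.Injective ψ) (a : Cj ψ g k l) : l * l = 1 ↔ k * k = 1 :=
  ⟨fun e => Cj.un' hi (a.mul a) (Cj.one.cast rfl e.symm), fun e => (a.mul a).uniq hi (Cj.one.cast e.symm rfl)⟩
theorem Cj.ne (hi : Function.Injective ψ) (a : Cj ψ g k l) (h : k ≠ 1) : l ≠ 1 := fun e => h (Cj.un' hi a (Cj.one.cast rfl e.symm))
theorem Cj.ex {H : Subgroup M} (hc : cj g (H.map ψ) ≤ ψ.range) (hk : k ∈ H) : ∃ l, Cj ψ g k l :=
  (hc (conj_mem_cj g (mem_map_of_mem ψ hk))).imp fun _ e => e.symm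
theorem Cj.of' (s : M) (e : s * k * s⁻¹ = l) : Cj ψ (ψ s) k l := (Cj.of s k).cast rfl e

/-- A power with exponent `0` or `1`. -/
def pw (c : Bool) (x : M) : M := Bool.rec 1 x c

/-- A word in four generators. -/
def W (n : Fin 6 → M) (τ : Fin 6 → Fin 6) (c : Bool × Bool × Bool × Bool) : M :=
  pw c.1 (n (τ 0)) * (pw c.2.1 (n (τ 1)) * (pw c.2.2.1 (n (τ 3)) * pw c.2.2.2 (n (τ 4))))

/-- A `2`-group with a normal subgroup `Q = Q₈ ∘ Q₈`. -/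
structure Md (M : Type) [Group M] where
  Q : Subgroup M
  z : M
  n : Fin 6 → M
  pg : IsPGroup 2 M
  zc : ∀ k, k * z = z * k
  zz : z * z = 1
  z1 : z ≠ 1
  zQ : z ∈ Q
  nQ : ∀ i, n i ∈ Q
  nsq : ∀ i, n i * n i = z
  ns : ∀ k, k * k = z → ∃ i, k = n i ∨ k = n i * z
  ninj : ∀ i j, n i = n j ∨ n i = n j * z → i = j
  gen : ∀ k ∈ Q, ∃ c, k = W n id c ∨ k = W n id c * z
  sq : ∀ k ∈ Q, k * k = 1 ∨ k * k = z
  cQ : ∀ k, (∀ i, k * n i * k⁻¹ = n i ∨ k * n i * k⁻¹ = n i * z) → k ∈ Q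
  cm : ∀ k ∈ Q, ∀ l ∈ Q, k * l * k⁻¹ = l ∨ k * l * k⁻¹ = l * z
  nrm : ∀ k ∈ Q, ∀ s, s * k * s⁻¹ ∈ Q
  sing : n 0 * n 3 * (n 0 * n 3) = 1 ∧ n 0 * n 3 ≠ 1 ∧ n 0 * n 3 ≠ z
  cen : ∀ k ∈ Q, (∀ i, k * n i = n i * k) → k = 1 ∨ k = z
  nab : n 0 * n 1 ≠ n 1 * n 0
  card : Nat.card Q = 32

/-- Conjugation modulo `z`. -/
def Cz (ψ : M →* X) (z : M) (g : X) (k l : M) : Prop := Cj ψ g k l ∨ Cj ψ g k (l * z)

theorem pw_mem {H : Subgroup M} {x : M} (h : x ∈ H) (c : Bool) : pw c x ∈ H := by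
  cases c
  exacts [one_mem H, h]

namespace Md

variable (m : Md M)

theorem W_mem {H : Subgroup M} (h : ∀ i, m.n i ∈ H) (τ c) : W m.n τ c ∈ H :=
  mul_mem (pw_mem (h _) _) (mul_mem (pw_mem (h _) _) (mul_mem (pw_mem (h _) _) (pw_mem (h _) _)))

theorem Q_le {H : Subgroup M} (h : ∀ i, m.n i ∈ H) : m.Q ≤ H := fun k hk => by
  obtain ⟨c, rfl | rfl⟩ := m.gen k hk
  exacts [m.W_mem h _ c, mul_mem (m.W_mem h _ c) (m.nsq 0 ▸ mul_mem (h 0) (h 0))]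

theorem sqQ (h : k * k = m.z) : k ∈ m.Q := by
  obtain ⟨i, rfl | rfl⟩ := m.ns k h
  exacts [m.nQ i, mul_mem (m.nQ i) m.zQ]

theorem zzc (k : M) : k * m.z * m.z = k := by rw [mul_assoc, m.zz, mul_one]

theorem cz_mul (a : Cz ψ m.z g k l) (b : Cz ψ m.z g k' l') : Cz ψ m.z g (k * k') (l * l') := by
  rcases a with a | a <;> rcases b with b | b
  · exact .inl (a.mul b)
  · exact .inr ((a.mul b).cast rfl (mul_assoc _ _ _).symm)
  · exact .inr ((a.mul b).cast rfl (by rw [mul_assoc, ← m.zc, mul_assoc]))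
  · exact .inl ((a.mul b).cast rfl (by rw [mul_assoc, ← mul_assoc m.z, ← m.zc, m.zzc]))

theorem cz_z (hz : Cj ψ g m.z m.z) (a : Cz ψ m.z g k l) : Cz ψ m.z g (k * m.z) l :=
  a.elim (fun a => .inr (a.mul hz)) fun a => .inl ((a.mul hz).cast rfl (m.zzc l))

theorem cz_comp (hz : Cj ψ h m.z m.z) (a : Cz ψ m.z g k l) (b : Cz ψ m.z h l l') : Cz ψ m.z (h * g) k l' := by
  rcases a with a | a
  · exact b.imp a.comp a.comp
  · exact (m.cz_z hz b).imp a.comp a.comp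

theorem cz_uniq (hi : Function.Injective ψ) (a : Cz ψ m.z g k l) (b : Cz ψ m.z g k l') : l = l' ∨ l = l' * m.z := by
  rcases a with a | a <;> rcases b with b | b
  · exact .inl (a.uniq hi b)
  · exact .inr (a.uniq hi b)
  · exact .inr (by rw [← a.uniq hi b, m.zzc])
  · exact .inl (mul_right_cancel (a.uniq hi b))

theorem cz_com (hi : Function.Injective ψ) (a : Cz ψ m.z g k l) (b : Cz ψ m.z g k' l') : l * l' = l' * l ↔ k * k' = k' * k := by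
  have e : ∀ x y : M, x * (y * m.z) = y * m.z * x ↔ x * y = y * x := fun x y => by
    rw [mul_assoc y, ← m.zc, ← mul_assoc, ← mul_assoc, mul_left_inj]
  have e' : ∀ x y : M, x * m.z * y = y * (x * m.z) ↔ x * y = y * x := fun x y => by rw [eq_comm, e, eq_comm]
  rcases a with a | a <;> rcases b with b | b <;> rw [← Cj.com hi a b]
  · rw [e]
  · rw [e']
  · rw [e, e']

theorem wc (hi : Function.Injective ψ) (hz : Cj ψ g m.z m.z) (hc : cj g (m.Q.map ψ) ≤ ψ.range) : g ∈ 𝐍 (m.Q.map ψ) := by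
  refine mem_normalizer_of_cj_le (cj_le_iff'.2 ?_)
  rintro _ ⟨k, hk, rfl⟩
  refine m.Q_le (H := ((m.Q.map ψ).comap (MulAut.conj g).toMonoidHom).comap ψ) (fun i => ?_) hk
  obtain ⟨l, hl⟩ := Cj.ex hc (m.nQ i)
  exact ⟨l, m.sqQ ((hl.mul hl).uniq hi (hz.cast (m.nsq i).symm rfl)), Eq.symm hl⟩

theorem exN (hg : g ∈ 𝐍 (m.Q.map ψ)) (hk : k ∈ m.Q) : ∃ l ∈ m.Q, Cj ψ g k l := by
  obtain ⟨l, l1, l2⟩ := (cj_of_mem_normalizer hg).le (conj_mem_cj g (mem_map_of_mem ψ hk))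
  exact ⟨l, l1, l2.symm⟩

theorem TN (k : M) : ψ k ∈ 𝐍 (m.Q.map ψ) := mem_normalizer_of_cj_le (cj_le_iff'.2 (by
  rintro _ ⟨l, hl, rfl⟩
  exact ⟨_, m.nrm l hl k, by simp⟩))

/-- The action on the six nonsingular vectors. -/
def Sg (ψ : M →* X) (σ : 𝐍 (m.Q.map ψ) →* Perm (Fin 6)) : Prop := ∀ (g : 𝐍 (m.Q.map ψ)) i, Cz ψ m.z g (m.n i) (m.n (σ g i))

theorem exists_sg (hi : Function.Injective ψ) (hz : ∀ g, Cj ψ g m.z m.z) : ∃ σ, m.Sg ψ σ := by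
  have ex : ∀ (g : 𝐍 (m.Q.map ψ)) i, ∃ j, Cz ψ m.z g (m.n i) (m.n j) := fun g i => by
    obtain ⟨l, -, l2⟩ := m.exN g.2 (m.nQ i)
    obtain ⟨j, rfl | rfl⟩ := m.ns l ((l2.mul l2).uniq hi ((hz g).cast (m.nsq i).symm rfl))
    exacts [⟨j, .inl l2⟩, ⟨j, .inr l2⟩]
  choose f hf using ex
  let act : MulAction (𝐍 (m.Q.map ψ)) (Fin 6) :=
    { smul := f
      one_smul := fun i => m.ninj _ _ (m.cz_uniq hi (hf 1 i) (.inl Cj.id))
      mul_smul := fun g g' i => m.ninj _ _ (m.cz_uniq hi (hf (g * g') i) (m.cz_comp (hz g) (hf g' i) (hf g _))) }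
  exact ⟨MulAction.toPermHom (𝐍 (m.Q.map ψ)) (Fin 6), hf⟩

variable {m} {σ : 𝐍 (m.Q.map ψ) →* Perm (Fin 6)} (s : m.Sg ψ σ) (hi : Function.Injective ψ) (hz : ∀ g, Cj ψ g m.z m.z)
include s hz

theorem Sg.W (g : 𝐍 (m.Q.map ψ)) (c) : Cz ψ m.z g (W m.n id c) (W m.n (σ g) c) := by
  have e : ∀ (c : Bool) i, Cz ψ m.z g (pw c (m.n i)) (pw c (m.n (σ g i))) := fun c i => by
    cases c
    exacts [.inl Cj.one, s g i]
  exact m.cz_mul (e _ _) (m.cz_mul (e _ _) (m.cz_mul (e _ _) (e _ _)))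

include hi

omit hz in
theorem Sg.eq {g : 𝐍 (m.Q.map ψ)} {τ : Perm (Fin 6)} (e : ∀ i, Cz ψ m.z g (m.n i) (m.n (τ i))) : σ g = τ :=
  Equiv.ext fun i => m.ninj _ _ (m.cz_uniq hi (s g i) (e i))

omit hz in
theorem Sg.pres (g : 𝐍 (m.Q.map ψ)) (i j) : m.n (σ g i) * m.n (σ g j) = m.n (σ g j) * m.n (σ g i) ↔
    m.n i * m.n j = m.n j * m.n i := m.cz_com hi (s g i) (s g j)

/-- The image of an element of `Q`. -/
theorem Sg.img (g : 𝐍 (m.Q.map ψ)) (hk : k ∈ m.Q) (h : Cz ψ m.z g k l) : ∃ c, (k = M12S.W m.n id c ∨ k = M12S.W m.n id c * m.z) ∧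
    (l = M12S.W m.n (σ g) c ∨ l = M12S.W m.n (σ g) c * m.z) := by
  obtain ⟨c, hc⟩ := m.gen k hk
  refine ⟨c, hc, m.cz_uniq hi h ?_⟩
  rcases hc with rfl | rfl
  exacts [s.W hz g c, m.cz_z (hz g) (s.W hz g c)]

theorem Sg.triv {g : 𝐍 (m.Q.map ψ)} (h : σ g = 1) (hk : k ∈ m.Q) : Cz ψ m.z g k k := by
  obtain ⟨c, rfl | rfl⟩ := m.gen k hk
  · have := s.W hz g c
    rwa [h] at this
  · have := m.cz_mul (s.W hz g c) (.inl (hz g))
    rwa [h] at this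

omit hz in
theorem Sg.Q (hk : k ∈ m.Q) : σ ⟨ψ k, m.TN k⟩ = 1 :=
  s.eq hi fun i => (m.cm k hk _ (m.nQ i)).imp (Cj.of' k) (Cj.of' k)

set_option maxHeartbeats 800000 in
theorem Sg.normal (hS : Syl 2 ψ.range ⊤) (hO : pPrimeCore 2 X = ⊥) (cl : ∀ g k l, k ∈ m.Q → Cj ψ g k l → l ∈ m.Q)
    (hf : Group.IsSolvable X ∨ ∀ g, Odd (orderOf (σ g)) → σ g = 1 ∨ ∀ c, (M12S.W m.n (σ g) c = M12S.W m.n id c ∨
      M12S.W m.n (σ g) c = M12S.W m.n id c * m.z) → M12S.W m.n id c = 1) :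
    (m.Q.map ψ).Normal ∧ ∀ g, σ g = 1 → g.1 ∈ m.Q.map ψ := by
  have : Fact (Nat.Prime 2) := ⟨Nat.prime_two⟩
  have oz : orderOf (ψ m.z) = 2 := (orderOf_injective ψ hi _).trans (orderOf_eq_prime (by rw [pow_two, m.zz]) m.z1)
  have : (zpowers (ψ m.z)).Normal := ⟨by
    rintro _ ⟨n, rfl⟩ g
    exact ⟨n, by rw [← conj_zpow, show g * ψ m.z * g⁻¹ = ψ m.z from hz g]⟩⟩
  let π := QuotientGroup.mk' (zpowers (ψ m.z))
  have πs : Function.Surjective π := QuotientGroup.mk'_surjective _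
  let χ := π.comp ψ
  have zz : ψ m.z * ψ m.z = 1 := by rw [← map_mul, m.zz, map_one]
  have πe : ∀ x y, π x = π y ↔ x = y ∨ x = y * ψ m.z := fun x y => by
    rw [eq_comm, QuotientGroup.mk'_eq_mk']
    constructor
    · rintro ⟨t, ht, rfl⟩
      rcases (Known2.mem_zpowers_invol zz).1 ht with rfl | rfl <;> simp
    · rintro (rfl | rfl)
      exacts [⟨1, one_mem _, mul_one _⟩, ⟨_, mem_zpowers _, rfl⟩]
  have χe : ∀ k l, χ k = χ l ↔ k = l ∨ k = l * m.z := fun k l => by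
    change π (ψ k) = π (ψ l) ↔ _
    rw [πe, ← map_mul, hi.eq_iff, hi.eq_iff]
  have χz : χ m.z = 1 := (χe m.z 1).2 (.inr (one_mul _).symm) |>.trans χ.map_one
  have lift : ∀ g k l, π g * χ k * (π g)⁻¹ = χ l ↔ Cz ψ m.z g k l := fun g k l => by
    rw [Cz, Cj, Cj, map_mul, ← πe, map_mul, map_mul, map_inv]; rfl
  have hS' : Syl 2 χ.range ⊤ := by
    rw [MonoidHom.range_comp]; exact hS.map_top πs
  let B := m.Q.map χ
  have Bsq : ∀ x ∈ B, x * x = 1 := by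
    rintro _ ⟨k, hk, rfl⟩
    rw [← map_mul]
    rcases m.sq k hk with e | e <;> rw [e]
    exacts [χ.map_one, χz]
  have c : SA B := sa_of_closed hS' Bsq ⟨map_le_range _ _, by
    rintro _ ⟨k, hk, rfl⟩ g ⟨l, hl⟩
    obtain ⟨g, rfl⟩ := πs g
    rcases (lift g k l).1 hl.symm with e | e
    · exact ⟨l, cl _ _ _ hk e, hl⟩
    · exact ⟨l, (m.Q.mul_mem_cancel_right m.zQ).1 (cl _ _ _ hk e), hl⟩⟩
  have eQ : B.comap π = m.Q.map ψ := by
    rw [show B = (m.Q.map ψ).map π from (map_map _ _ _).symm, comap_map_eq, QuotientGroup.ker_mk', sup_eq_left]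
    exact zpowers_le.2 (mem_map_of_mem ψ m.zQ)
  have kerσ : ∀ g, σ g = 1 → π g.1 ∈ 𝐂 B := fun g e => by
    rintro _ ⟨k, hk, rfl⟩
    exact (mul_inv_eq_iff_eq_mul.1 ((lift _ _ _).2 (s.triv hi hz e hk))).symm
  have hn : (B ⊔ pPrimeCore 2 _).Normal := normal_of_no_cm c fun K h => by
    rcases hf with hf | hf
    · have := Group.isSolvable_of_surjective πs
      exact Layer.IsPComponentOf.not_solvable h.pc inferInstance
    obtain ⟨V, t, tv⟩ := c.exists_tv h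
    obtain ⟨t, rfl⟩ := πs t
    have tN : t ∈ 𝐍 (m.Q.map ψ) := by
      rw [← eQ]; exact le_normalizer_comap π tv.nA
    have o : Odd (orderOf (σ ⟨t, tN⟩)) := by
      refine tv.odd.of_dvd_nat (orderOf_dvd_of_pow_eq_one ?_)
      have : π (t ^ orderOf (π t)) = π 1 := by rw [map_pow, pow_orderOf_eq_one, map_one]
      rw [← map_pow]
      rcases (πe _ _).1 this with e | e
      · rw [← map_one σ]; exact congrArg σ (Subtype.ext e)
      · rw [← s.Q hi m.zQ]; exact congrArg σ (Subtype.ext (e.trans (one_mul _)))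
    rcases hf _ o with e | e
    · obtain ⟨v, v1, w, w1, v2, w2, e'⟩ := tv.nc
      obtain ⟨i, hi⟩ := tv.tr v v1 v2 w w1 w2
      have : Commute (π t) v := (kerσ _ e v (tv.le v1)).symm
      exact e' (by rw [← hi, (this.pow_left i).eq, mul_inv_cancel_right])
    have h2 : ∀ x ∈ B, x ∈ V := fun x hx => by
      obtain ⟨v, v1, _, ⟨k, hk, rfl⟩, f2, rfl⟩ := tv.dec x hx
      obtain ⟨c0, c1, c2⟩ := s.img hi hz ⟨t, tN⟩ hk ((lift _ _ _).1 (c.fix h tv.mem tv.nA (mem_map_of_mem χ hk) f2))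
      rw [(χe _ _).2 c1, e c0 ((χe _ _).1 (((χe _ _).2 c2).symm.trans ((χe _ _).2 c1))), map_one, mul_one]
      exact v1
    have n1 : ∀ k, k ≠ 1 → k ≠ m.z → χ k ≠ 1 := fun k h1 h2 e => by
      rw [← map_one χ, χe, one_mul] at e; exact e.elim h1 h2
    obtain ⟨i, h3⟩ := tv.tr _ (h2 _ (mem_map_of_mem χ (m.nQ 0))) (n1 _ (fun e => m.z1 (by rw [← m.nsq 0, e, mul_one]))
      fun e => m.z1 (by rw [← m.nsq 0, e, m.zz])) _ (h2 _ (mem_map_of_mem χ (mul_mem (m.nQ 0) (m.nQ 3))))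
      (n1 _ m.sing.2.1 m.sing.2.2)
    rw [← map_pow, lift] at h3
    refine m.z1 (m.nsq 0 ▸ ?_)
    rcases h3 with h3 | h3 <;> rw [← Cj.sq hi h3]
    · exact m.sing.1
    · rw [mul_assoc, ← mul_assoc m.z, ← m.zc, m.zzc, m.sing.1]
  have hO' : pPrimeCore 2 (X ⧸ zpowers (ψ m.z)) = ⊥ := Block.oddCore_quotient_eq_bot hO oz
  rw [hO', sup_bot_eq] at hn
  have hC : 𝐂 B ≤ B := Fus2.centralizer_le_of_pPrimeCore_eq_bot hS' hO' (by
    rintro _ ⟨⟨k, rfl⟩, hk⟩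
    refine mem_map_of_mem χ (m.cQ k fun i => (χe _ _).1 ?_)
    rw [map_mul, map_mul, map_inv, ← hk _ (mem_map_of_mem χ (m.nQ i)), mul_inv_cancel_right])
  exact ⟨eQ ▸ hn.comap π, fun g e => eQ.le (hC (kerσ g e))⟩

omit s hz in
theorem es : Known2.ES (m.Q.map ψ) (ψ m.z) where
  mem := mem_map_of_mem ψ m.zQ
  ne := fun e => m.z1 (hi (e.trans ψ.map_one.symm))
  sq := by rw [← map_mul, m.zz, map_one]
  cen := by rintro _ ⟨k, -, rfl⟩; rw [← map_mul, m.zc, map_mul]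
  of_cen := by
    rintro _ ⟨k, hk, rfl⟩ e
    rcases m.cen k hk fun i => hi (by simpa using e _ (mem_map_of_mem ψ (m.nQ i))) with rfl | rfl <;> simp
  comm := by
    rintro _ ⟨k, hk, rfl⟩ _ ⟨l, hl, rfl⟩
    simp only [← map_mul, hi.eq_iff]
    refine (m.cm k hk l hl).imp mul_inv_eq_iff_eq_mul.1 fun e => ?_
    rw [mul_inv_eq_iff_eq_mul.1 e, mul_assoc, mul_assoc, m.zc]
  sq_mem := by
    rintro _ ⟨k, hk, rfl⟩
    rcases m.sq k hk with e | e <;> simp [← map_mul, e]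
  nonab := ⟨_, mem_map_of_mem ψ (m.nQ 0), _, mem_map_of_mem ψ (m.nQ 1), fun e => m.nab (hi (by simpa using e))⟩

end Md

end Cfsg.Lib.M12S
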