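import Cfsg.Agent.Lib.M12S.WG
import Cfsg.Agent.Lib.M12S.G0
import Cfsg.Agent.Lib.Block.ZStar

/-!
# Fusion of involutions in groups with a Sylow `2`-subgroup of type `G₂(q)`, `q` odd
-/

set_option autoImplicit false
set_option linter.unusedSectionVars false

namespace Cfsg.Lib.M12S.WG

open Subgroup Cfsg.Lib.X32 Cfsg.Lib.Core Cfsg.Lib.BG1 Cfsg.Lib.Invol Cfsg.Lib.GW
open Cfsg.Lib.Amalg hiding le_cent_symm op_top

universe u

local instance : Fact (Nat.Prime 2) := ⟨Nat.prime_two⟩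

variable {R : Type} [CommRing R] {G : Type u} [Group G] [Finite G] {ψ : WG R →* G} {k : R} (h : Hk k) (pg : IsPGroup 2 (WG R))
  (hi : Function.Injective ψ) (hS : Syl 2 ψ.range ⊤)
include h pg hi hS

theorem Hk.z_u (hO : oddCore G = ⊥) (hz : ψ (A (2 * k) (2 * k)) ∉ center G) : Fz ψ (A (2 * k) (2 * k)) (A (2 * k) 0) := by
  by_contra hc
  have sq : ∀ {y}, Fz ψ (A (2 * k) (2 * k)) y → y * y = 1 ∧ y ≠ 1 := fun f => by
    obtain ⟨g, hg⟩ := isConj_iff.1 f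
    exact ⟨(Cj.sq hi hg).2 h.zz, Cj.ne hi hg h.z1⟩
  have ext : ∀ {y}, Fz ψ (A (2 * k) (2 * k)) y → ∃ g, Cj ψ g y (A (2 * k) (2 * k)) ∧ ∀ l, l * y = y * l → ∃ l', Cj ψ g l l' := fun f => by
    obtain ⟨g, hg⟩ := isConj_iff.1 (IsConj.symm f)
    obtain ⟨c, -, c1, c2⟩ := cj_into pg (syl_z hS h.zc) hg
    exact ⟨_, c1, fun l hl => Cj.ex c2 (mem_centralizer_singleton_iff.2 hl)⟩
  have ty : ∀ y, Fz ψ (A (2 * k) (2 * k)) y → y ≠ A (2 * k) (2 * k) → A (2 * k) 0 * y = y * A (2 * k) 0 ∧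
      ∀ p, p * y = y * p → (∃ r, r * y * r⁻¹ = p) ∨ ∃ r, r * y * r⁻¹ = p * y := fun y f e => by
    refine (h.ty (sq f).1).resolve_left fun ⟨r, r1, r2⟩ => ?_
    obtain ⟨g, g1, g2⟩ := ext f
    obtain ⟨r', r3⟩ := g2 r r1
    have e1 := (r3.mul r3).cast r2 rfl
    have f1 := Fz.refl.cj e1
    rcases h.inv (Bool.xor_self _) (Bool.xor_self _) (sq f1).1 (sq f1).2 with e2 | ⟨t, e2⟩
    exacts [e (Cj.un' hi g1 (e1.cast rfl e2)), hc (f1.cj (Cj.of' t e2).symm)]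
  refine hz (Block.z_star_center hO ⟨(orderOf_injective ψ hi _).trans (orderOf_eq_prime (by rw [pow_two, h.zz]) h.z1), fun g hg => ?_⟩)
  obtain ⟨c, c1, y, hy⟩ := exists_cj' (syl_z hS h.zc) (e := g * ψ (A (2 * k) (2 * k)) * g⁻¹) (mem_centralizer_singleton_iff.2 hg.symm) (by
    rw [conj_mul, ← map_mul, h.zz]; simp)
  have f : Fz ψ (A (2 * k) (2 * k)) y := (isConj_iff.2 ⟨g, rfl⟩).trans (isConj_iff.2 ⟨c, hy⟩)
  obtain rfl : y = A (2 * k) (2 * k) := by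
    by_contra e
    obtain ⟨g, g1, g2⟩ := ext f
    obtain ⟨p, p1⟩ := g2 _ (ty y f e).1
    obtain ⟨q, q1⟩ := g2 _ (h.zc y).symm
    have f1 := Fz.refl.cj q1
    rcases (ty q f1 fun e' => e (Cj.un' hi g1 (q1.cast rfl e'))).2 p ((Cj.com hi p1 q1).2 (h.zc _)) with ⟨r, e1⟩ | ⟨r, e1⟩
    · exact hc ((f1.cj (Cj.of' r e1)).cj p1.symm)
    · exact hc (((f1.cj (Cj.of' r e1)).cj (p1.mul q1).symm).cj (Cj.of' (s false) (by
        simp [mul_def, inv_def]; linear_combination h.four)))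
  exact (MulAut.conj c).injective (hy.trans (mul_inv_eq_iff_eq_mul.2 (mem_centralizer_singleton_iff.1 c1)).symm)

theorem Hk.two_cls (hG : ∀ K : Subgroup G, K.index ≠ 2) (f : Fz ψ (A (2 * k) (2 * k)) (A (2 * k) 0)) {e : G} (he : orderOf e = 2)
    (b : Bool) : IsConj (ψ (A (2 * k) (2 * k))) e ∨ IsConj (ψ (s b)) e := by
  obtain ⟨g, a, a1, a2⟩ := thompson_transfer' hG (H := ψ.range) (M := (sg (fun a => a.f = (b && a.e)) ⟨by cases b <;> rfl, fun _ h => h, by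
      rintro ⟨_, _, _ | _, _ | _⟩ h ⟨_, _, _ | _, _ | _⟩ h' <;> cases b <;> first | rfl | (cases h; done) | cases h'⟩).map ψ)
    (Nat.odd_iff.2 (Nat.two_dvd_ne_zero.1 hS.not_dvd_index)) (by
      rw [MonoidHom.range_eq_map, relIndex_map_map_of_injective _ _ hi, relIndex_top_right, index_eq_two_iff]
      refine ⟨⟨0, 0, false, true⟩, ?_⟩
      rintro ⟨_, _, _ | _, _ | _⟩ <;> cases b <;> simp [sg, mul_def]) he
  have a3 : a * a = 1 := hi (by rw [map_mul, a2, conj_mul, mul_self_of_two he]; simp)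
  have a4 : a ≠ 1 := fun e => ne_one_of_two he (by rwa [e, map_one, eq_comm, conj_eq_one_iff] at a2)
  have a5 : IsConj (ψ a) e := (isConj_iff.2 ⟨g, a2.symm⟩).symm
  replace a1 : a.f = (b && a.e) := a1
  cases e1 : a.e
  · rcases h.inv e1 (by rw [a1, e1, Bool.and_false]) a3 a4 with rfl | ⟨r, e2⟩
    exacts [.inl a5, .inl (IsConj.trans (f.cj (Cj.of' r e2)) a5)]
  · obtain ⟨r, e2⟩ := out e1 a3
    rw [a1, e1, Bool.and_true] at e2
    exact .inr ((Cj.of' r e2).isConj.trans a5)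

omit h pg hi hS in
/-- The elements normalising the group generated by an element of order four. -/
def St (ψ : WG R →* G) (c : WG R) : Subgroup G where
  carrier := {g | Cj ψ g c c ∨ Cj ψ g c c⁻¹}
  one_mem' := .inl .id
  inv_mem' := fun h => h.imp .symm fun h => h.symm.inv.cast (inv_inv _) rfl
  mul_mem' := by
    rintro a b (h | h) (h' | h')
    exacts [.inl (h'.comp h), .inr ((h'.comp h.inv)), .inr (h'.comp h), .inl ((h'.comp h.inv).cast rfl (inv_inv _))]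

theorem Hk.not_cj (g : G) : ¬ Cj ψ g (A k k) (A k (-k)) := fun hg => by
  have le : ∀ b, ψ.range ≤ St ψ (A k (cond b (-k) k)) := by
    rintro b _ ⟨a, rfl⟩
    exact (nc b a).imp (Cj.of' a) (Cj.of' a)
  obtain ⟨m, m1, m2⟩ := (hS.of_le (le true) le_top).exists_conj_le (P := cj g ψ.range) (isPGroup_cj _ hS.isPGroup) (cj_le_iff'.2 fun x hx =>
    (le false hx).imp (fun e => ((hg.symm.comp e).comp hg).cast' (by group)) fun e => ((hg.symm.comp e).comp hg.inv).cast' (by group))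
  rw [← cj_mul] at m2
  have n1 : Cj ψ (m * g) (A k k) (A k (-k)) ∨ Cj ψ (m * g) (A k k) (A k (-k))⁻¹ := m1.imp hg.comp hg.comp
  have n2 : Cj ψ (m * g) (A (2 * k) (2 * k)) (A (2 * k) (2 * k)) := by
    rcases n1 with e | e
    · exact (e.mul e).cast (h.cc false) (h.cc true)
    · exact (e.mul e).cast (h.cc false) (by rw [← mul_inv_rev, show A k (-k) * A k (-k) = _ from h.cc true, inv_eq_of_mul_eq_one_right h.zz])
  have nc : ∀ {c}, c = A k (-k) ∨ c = (A k (-k))⁻¹ → Cj ψ (m * g) (A k (-k)) c → False := by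
    rintro _ (rfl | rfl) e <;> rcases n1 with e' | e'
    exacts [h.ne.1 (Cj.un' hi e e'), h.ne.2 (Cj.un' hi e (e'.inv.cast rfl (inv_inv _))),
      h.ne.2 (Cj.un' hi e e'.inv), h.ne.1 (Cj.un' hi e e')]
  obtain ⟨r, r1⟩ := Cj.ex (H := ⊤) (k := (⟨k, 0, true, true⟩ : WG R)) (ψ := ψ) (g := m * g) (by rwa [← MonoidHom.range_eq_map]) trivial
  obtain ⟨x, y, e⟩ := sq r
  have r2 : Cj ψ (m * g) (A k (-k)) (A x y) := (r1.mul r1).cast (by simp [mul_def]) e
  obtain ⟨_ | _, r3⟩ := h.rt (((r2.mul r2).cast (h.cc true) rfl).uniq hi n2)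
  swap
  · exact nc r3 r2
  have n3 : m * g * (m * g) ∈ St ψ (A k k) := by
    rcases n1 with e | e <;> rcases r3 with e' | e' <;> rw [e'] at r2
    exacts [.inl (e.comp r2), .inr (e.comp r2), .inr (e.comp r2.inv), .inl ((e.comp r2.inv).cast rfl (inv_inv _))]
  have := (normal_subgroupOf_iff_le_normalizer (H := ψ.range) le_normalizer).2 le_rfl
  have n4 : (m * g) ^ ψ.range.relIndex 𝐍(ψ.range) ∈ St ψ (A k k) :=
    le false (pow_index_mem (H := ψ.range.subgroupOf 𝐍(ψ.range)) ⟨_, mem_normalizer_of_cj_le m2⟩)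
  obtain ⟨j, hj⟩ := Nat.odd_iff.2 (Nat.two_dvd_ne_zero.1 (hS.of_le le_normalizer le_top).not_dvd_relIndex)
  rw [hj, pow_succ, pow_mul, pow_two, mul_mem_cancel_left (pow_mem n3 j)] at n4
  rcases n4 with e | e <;> rcases n1 with e' | e'
  exacts [h.ne.1 (e'.uniq hi e), h.ne.2 (inv_eq_iff_eq_inv.1 (e'.uniq hi e)), h.ne.2 (e'.uniq hi e), h.ne.1 (inv_injective (e'.uniq hi e))]

theorem Hk.not_ss {k' : R} (hk : k = 2 * k') (f : Fz ψ (A (2 * k) (2 * k)) (A (2 * k) 0)) (hs : Fz ψ (s false) (s true)) :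
    Fz ψ (A (2 * k) (2 * k)) (s false) := by
  by_contra hc
  obtain ⟨P, P1, -⟩ := exists_syl_ge (H := 𝐂[ψ (s false)]) (IsPGroup.of_bot (p := 2)) bot_le
  obtain ⟨m, -, hm⟩ := hS.exists_conj_le P1.isPGroup le_top
  have key : ∀ b g, Cj ψ g (s b) (s false) → ∃ g l, Cj ψ m (s false) l ∧ Cj ψ g (s b) l ∧ ∀ d, d * s b = s b * d → ∃ d', Cj ψ g d d' := fun b g e => by
    obtain ⟨c, -, c1, c2⟩ := cj_into pg P1 e
    have c3 : cj (m * (c * g)) ((𝐂[s b]).map ψ) ≤ ψ.range := by rw [cj_mul]; exact (cj_mono m c2).trans hm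
    obtain ⟨l, hl⟩ := Cj.ex c3 (mem_centralizer_singleton_iff.2 rfl)
    exact ⟨_, l, (c1.symm.comp hl).cast' (by group), hl, fun d hd => Cj.ex c3 (mem_centralizer_singleton_iff.2 hd)⟩
  obtain ⟨g, hg⟩ := isConj_iff.1 (IsConj.symm hs)
  obtain ⟨g1, l, a1, a2, a3⟩ := key false 1 .id
  obtain ⟨g2, l', b1, b2, b3⟩ := key true g hg
  obtain rfl := a1.uniq hi b1
  have l1 := (Cj.sq hi a1).2 (by simp [mul_def, one_def])
  obtain ⟨b, hb⟩ := h.c4 (l := l) (fun _ e e' => by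
    rcases h.inv e e' l1 (Cj.ne hi a1 fun e => by cases e) with rfl | ⟨r, e2⟩
    exacts [hc (Fz.refl.cj a1.symm), hc ((f.cj (Cj.of' r e2)).cj a1.symm)]) l1
  have k2 : ∀ b' g, Cj ψ g (s b') l → (∀ d, d * s b' = s b' * d → ∃ d', Cj ψ g d d') →
      ∃ g, Cj ψ g (A k (cond b' (-k) k)) (A k (cond b (-k) k)) := fun b' g e1 e2 => by
    obtain ⟨d, d1, d2⟩ := dd b' k'
    obtain ⟨d', d3⟩ := e2 d d1
    obtain ⟨x, y, e⟩ := sq d'
    rw [← hk] at d2
    have e3 := (d3.mul d3).cast d2 e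
    have e4 := (e3.mul e3).cast (h.cc b') rfl
    rcases hb x y ((Cj.com hi e3 e1).2 (by rw [← d2, mul_assoc, d1, ← mul_assoc, d1, mul_assoc])) (Cj.ne hi e4 h.z1)
      ((Cj.sq hi e4).2 h.zz) with e5 | e5
    · exact ⟨_, e3.cast rfl e5⟩
    · exact ⟨_, (e3.cast rfl e5).comp (Cj.of' ⟨0, 0, false, true⟩ (by cases b <;> simp [mul_def, inv_def]))⟩
  obtain ⟨x, hx⟩ := k2 false _ a2 a3
  obtain ⟨y, hy⟩ := k2 true _ b2 b3
  exact h.not_cj pg hi hS _ (hx.comp hy.symm)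

theorem Hk.main [IsSimpleGroup G] (hk : Nat.card R = 4 ∨ ∃ k', k = 2 * k') : (∀ x y : G, orderOf x = 2 → orderOf y = 2 → IsConj x y) ∨
    (Nat.card ψ.range = 64 ∧ ∃ x y : G, orderOf x = 2 ∧ orderOf y = 2 ∧ ¬ IsConj x y ∧ ∀ z : G, orderOf z = 2 → IsConj z x ∨ IsConj z y) := by
  have hG : ¬ IsMulCommutative G := fun e => h.two (by
    have := congrArg WG.x (hi (show ψ (A k k * ⟨0, 0, false, true⟩) = ψ (⟨0, 0, false, true⟩ * A k k) by rw [map_mul, map_mul, e.1.1]))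
    simp only [mul_def, cond] at this
    linear_combination this)
  have f := h.z_u pg hi hS (Exc.oddCore_eq_bot hG) (by
    rw [(IsSimpleGroup.eq_bot_or_eq_top_of_normal (center G) inferInstance).resolve_right
      fun e => hG ⟨⟨fun a b => mem_center_iff.1 (e.ge (mem_top b)) a⟩⟩, mem_bot]
    exact fun e => h.z1 (hi (e.trans (map_one ψ).symm)))
  have t := @h.two_cls _ _ _ _ _ _ _ pg hi hS (Exc.index_ne_two hG) f
  refine or_iff_not_imp_left.2 fun hc => ?_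
  obtain ⟨e, e1, e2⟩ : ∃ e : G, orderOf e = 2 ∧ ¬ IsConj (ψ (A (2 * k) (2 * k))) e := by
    by_contra! e
    exact hc fun x y hx hy => (e x hx).symm.trans (e y hy)
  have s1 := fun b => (t e1 b).resolve_left e2
  refine ⟨?_, _, e, (orderOf_injective ψ hi _).trans (orderOf_eq_prime (by rw [pow_two, h.zz]) h.z1), e1, e2,
    fun z hz => (t hz false).imp .symm fun e => e.symm.trans (s1 false)⟩
  rcases hk with hk | ⟨k', hk⟩
  · rw [← Nat.card_congr (MonoidHom.ofInjective hi).toEquiv, card, hk]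
  · exact (e2 (IsConj.trans (h.not_ss pg hi hS hk f ((s1 false).trans (s1 true).symm)) (s1 false))).elim

end Cfsg.Lib.M12S.WG
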