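import Mathlib

/-!
# The groups `(R × R) : 2²`, models of the Sylow `2`-subgroups of `G₂(q)`, `q` odd
-/

set_option autoImplicit false

namespace Cfsg.Lib.M12S

/-- The element `a ^ x * b ^ y * s ^ e * t ^ f`. -/
@[ext] structure WG (R : Type) where
  x : R
  y : R
  e : Bool
  f : Bool

namespace WG

variable {R : Type} [CommRing R]

instance : Mul (WG R) := ⟨fun a b => ⟨a.x + cond a.f (-cond a.e b.y b.x) (cond a.e b.y b.x),
  a.y + cond a.f (-cond a.e b.x b.y) (cond a.e b.x b.y), xor a.e b.e, xor a.f b.f⟩⟩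
instance : Inv (WG R) := ⟨fun a => ⟨cond a.f (cond a.e a.y a.x) (-cond a.e a.y a.x), cond a.f (cond a.e a.x a.y) (-cond a.e a.x a.y), a.e, a.f⟩⟩
instance : One (WG R) := ⟨⟨0, 0, false, false⟩⟩

theorem mul_def (x y x' y' : R) (e f e' f' : Bool) : (⟨x, y, e, f⟩ : WG R) * ⟨x', y', e', f'⟩ =
    ⟨x + cond f (-cond e y' x') (cond e y' x'), y + cond f (-cond e x' y') (cond e x' y'), xor e e', xor f f'⟩ := rfl
theorem inv_def (x y : R) (e f : Bool) : (⟨x, y, e, f⟩ : WG R)⁻¹ =
    ⟨cond f (cond e y x) (-cond e y x), cond f (cond e x y) (-cond e x y), e, f⟩ := rfl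
theorem one_def : (1 : WG R) = ⟨0, 0, false, false⟩ := rfl

instance : Group (WG R) := Group.ofLeftAxioms
  (by rintro ⟨_, _, _ | _, _ | _⟩ ⟨_, _, _ | _, _ | _⟩ ⟨_, _, _, _⟩ <;> simp [mul_def, add_assoc, add_comm, add_left_comm])
  (by rintro ⟨_, _, _, _⟩; simp [mul_def, one_def])
  (by rintro ⟨_, _, _ | _, _ | _⟩ <;> simp [mul_def, inv_def, one_def])

/-- Coordinates. -/
def eqv : WG R ≃ (R × R) × Bool × Bool :=
  ⟨fun a => ((a.x, a.y), a.e, a.f), fun p => ⟨p.1.1, p.1.2, p.2.1, p.2.2⟩, fun _ => rfl, fun _ => rfl⟩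

omit [CommRing R] in
theorem card : Nat.card (WG R) = Nat.card R * Nat.card R * 4 := by
  rw [Nat.card_congr eqv]; simp

/-- An element of order four generating the `4`-torsion. -/
structure Hk (k : R) : Prop where
  four : 4 * k = 0
  two : 2 * k ≠ 0
  half : ∀ x, 2 * x = 0 → x = 0 ∨ x = 2 * k

/-- Elements of the base group. -/
abbrev A (x y : R) : WG R := ⟨x, y, false, false⟩
/-- Involutions outside the base group. -/
abbrev s (f : Bool) : WG R := ⟨0, 0, true, f⟩

variable {k : R} (h : Hk k)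
include h

theorem Hk.neg : -(2 * k) = 2 * k := by linear_combination -h.four

theorem Hk.qu {x : R} (e : 2 * x = 2 * k) : x = k ∨ x = -k :=
  (h.half (x - k) (by linear_combination e)).imp (fun e => by linear_combination e) fun e => by linear_combination e + h.four

theorem Hk.zc (a : WG R) : a * A (2 * k) (2 * k) = A (2 * k) (2 * k) * a := by
  rcases a with ⟨_, _, _ | _, _ | _⟩ <;> simp [mul_def, h.neg, add_comm]

theorem Hk.zz : A (2 * k) (2 * k) * A (2 * k) (2 * k) = 1 := by
  simp only [mul_def, one_def, cond, WG.mk.injEq]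
  exact ⟨by linear_combination h.four, by linear_combination h.four, rfl, rfl⟩

theorem Hk.z1 : A (2 * k) (2 * k) ≠ 1 := fun e => h.two (congrArg WG.x e)

theorem Hk.inv {a : WG R} (e : a.e = false) (f : a.f = false) (h1 : a * a = 1) (h2 : a ≠ 1) :
    a = A (2 * k) (2 * k) ∨ ∃ r, r * A (2 * k) 0 * r⁻¹ = a := by
  obtain ⟨x, y, _, _⟩ := a
  cases e; cases f
  simp only [mul_def, one_def, cond, WG.mk.injEq, ← two_mul] at h1
  rcases h.half x h1.1 with rfl | rfl <;> rcases h.half y h1.2.1 with rfl | rfl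
  exacts [absurd rfl h2, .inr ⟨s false, by simp [mul_def, inv_def]⟩, .inr ⟨1, by simp⟩, .inl rfl]

theorem Hk.ty {y : WG R} (h1 : y * y = 1) : (∃ r, r * y = y * r ∧ r * r = A (2 * k) (2 * k)) ∨
    (A (2 * k) 0 * y = y * A (2 * k) 0 ∧ ∀ p, p * y = y * p → (∃ r, r * y * r⁻¹ = p) ∨ ∃ r, r * y * r⁻¹ = p * y) := by
  obtain ⟨x, y, _ | _, _ | _⟩ := y
  · exact .inl ⟨A k k, by simp [mul_def, add_comm], by simp [mul_def, two_mul]⟩
  · refine or_iff_not_imp_left.2 fun hc => ⟨by simp [mul_def, h.neg, add_comm], ?_⟩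
    have ev : ∀ a, x - y ≠ 2 * a := fun a e => hc ⟨⟨a, 2 * k - a, true, false⟩, by
      simp only [mul_def, cond, WG.mk.injEq]
      exact ⟨by linear_combination -e, by linear_combination e + h.four, rfl, rfl⟩, by simp [mul_def]⟩
    have dv : ∀ a : R, 2 * a = 0 → ∃ b, a = 2 * b := fun a e => (h.half a e).elim (fun e => ⟨0, by simp [e]⟩) fun e => ⟨k, e⟩
    rintro ⟨a, b, _ | _, _ | _⟩ e <;> simp only [mul_def, cond, WG.mk.injEq] at e
    · obtain ⟨a, rfl⟩ := dv a (by linear_combination e.1)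
      obtain ⟨b, rfl⟩ := dv b (by linear_combination e.2.1)
      exact .inr ⟨A a b, by simp [mul_def, inv_def]; constructor <;> ring⟩
    · obtain ⟨a', h3⟩ := dv (a - x) (by linear_combination e.1)
      obtain ⟨b', h4⟩ := dv (b - y) (by linear_combination e.2.1)
      exact .inl ⟨A a' b', by simp [mul_def, inv_def]; exact ⟨by linear_combination -h3, by linear_combination -h4⟩⟩
    · exact absurd (by linear_combination e.2.1) (ev (-b))
    · exact absurd (by linear_combination -e.1) (ev (a - y))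
  · exact .inl ⟨A k k, by simp [mul_def, add_comm], by simp [mul_def, two_mul]⟩
  · exact .inl ⟨A k (-k), by simp [mul_def, add_comm], by
      simp only [mul_def, cond, WG.mk.injEq]; exact ⟨by ring, by linear_combination -h.four, rfl, rfl⟩⟩

omit h in
theorem out {a : WG R} (e : a.e = true) (h1 : a * a = 1) : ∃ r, r * s a.f * r⁻¹ = a := by
  obtain ⟨x, y, _, _ | _⟩ := a <;> cases e <;> simp only [mul_def, one_def, cond, WG.mk.injEq] at h1 <;>
    exact ⟨A x 0, by simp [mul_def, inv_def]; linear_combination -h1.2.1⟩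

omit h in
theorem sq (r : WG R) : ∃ x y, r * r = A x y := ⟨_, _, WG.ext rfl rfl (Bool.xor_self _) (Bool.xor_self _)⟩

theorem Hk.c4 {l : WG R} (hl : l * l = 1 → l.e = false → l.f = false → False) (h1 : l * l = 1) : ∃ b, ∀ x y, A x y * l = l * A x y →
    A x y * A x y ≠ 1 → A x y * A x y * (A x y * A x y) = 1 → A x y = A k (cond b (-k) k) ∨ A x y = (A k (cond b (-k) k))⁻¹ := by
  refine ⟨l.f, fun x y e e1 e2 => ?_⟩
  obtain ⟨a, b, _ | _, _ | _⟩ := l <;> simp only [mul_def, inv_def, one_def, cond_true, cond_false, Bool.xor_self, WG.mk.injEq, ne_eq, and_true] at *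
  · exact (hl h1 trivial trivial).elim
  · exact (e1 ⟨by linear_combination e.1, by linear_combination e.2.1⟩).elim
  · obtain rfl : x = y := by linear_combination e.1
    rcases h.half (2 * x) (by linear_combination e2.1) with e3 | e3
    · exact (e1 ⟨by linear_combination e3, by linear_combination e3⟩).elim
    · rcases h.qu e3 with rfl | rfl <;> simp
  · obtain rfl : x = -y := by linear_combination e.1
    rcases h.half (2 * y) (by linear_combination -e2.1) with e3 | e3
    · exact (e1 ⟨by linear_combination -e3, by linear_combination e3⟩).elim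
    · rcases h.qu e3 with rfl | rfl <;> simp

theorem Hk.rt {x y : R} (e : A x y * A x y = A (2 * k) (2 * k)) : ∃ b, A x y = A k (cond b (-k) k) ∨ A x y = (A k (cond b (-k) k))⁻¹ := by
  simp only [mul_def, cond, WG.mk.injEq, ← two_mul] at e
  rcases h.qu e.1 with rfl | rfl <;> rcases h.qu e.2.1 with rfl | rfl
  exacts [⟨false, .inl rfl⟩, ⟨true, .inl rfl⟩, ⟨true, .inr (by simp [inv_def])⟩, ⟨false, .inr rfl⟩]

theorem Hk.cc (b : Bool) : A k (cond b (-k) k) * A k (cond b (-k) k) = A (2 * k) (2 * k) := by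
  cases b <;> simp only [mul_def, cond, WG.mk.injEq]
  exacts [⟨by ring, by ring, rfl, rfl⟩, ⟨by ring, by linear_combination -h.four, rfl, rfl⟩]

omit h in
theorem nc (b : Bool) (a : WG R) : a * A k (cond b (-k) k) * a⁻¹ = A k (cond b (-k) k) ∨
    a * A k (cond b (-k) k) * a⁻¹ = (A k (cond b (-k) k))⁻¹ := by
  cases b <;> rcases a with ⟨_, _, _ | _, _ | _⟩ <;> simp [mul_def, inv_def]

theorem Hk.ne : A k (-k) ≠ A k k ∧ A k (-k) ≠ (A k k)⁻¹ :=
  ⟨fun e => h.two (by have : -k = k := congrArg WG.y e; linear_combination -this),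
    fun e => h.two (by have : k = -k := congrArg WG.x e; linear_combination this)⟩

omit h in
theorem dd (b : Bool) (k : R) : ∃ d : WG R, d * s b = s b * d ∧ d * d = A (2 * k) (cond b (-(2 * k)) (2 * k)) :=
  ⟨A k (cond b (-k) k), by cases b <;> simp [mul_def], by cases b <;> simp [mul_def, two_mul]⟩

end WG

end Cfsg.Lib.M12S
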