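import Cfsg.Agent.Lib.M12S.WG
import Cfsg.Agent.Lib.Core.Nilpotent
import Cfsg.Agent.Lib.Chev.G2SL
import Cfsg.Agent.Lib.Linear.Tv
import Cfsg.Agent.Lib.Linear.SL2Sub
import Cfsg.Agent.Lib.Block2.EAcl
import Cfsg.Agent.S1059

/-!
# The Sylow `2`-subgroups of `G₂(q)`, `q` odd
-/

set_option autoImplicit false

namespace Cfsg.Lib.M12S.WG

open Subgroup Cfsg.Lie Cfsg.Lib.Chev Cfsg.Lib.Twist Cfsg.Lib.Linear Matrix

theorem exists_hom {X : Type*} [Group X] {N : ℕ} [NeZero N] {a s t : X} (h1 : a ^ N = 1) (h2 : a * (s * a * s⁻¹) = s * a * s⁻¹ * a)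
    (h3 : s * s = 1) (h4 : t * t = 1) (h5 : t * s = s * t) (h6 : t * a * t⁻¹ = a⁻¹) :
    ∃ θ : WG (ZMod N) →* X, ∀ x, θ (A x x) = (a * (s * a * s⁻¹)) ^ x.val := by
  have a1 : ∀ x y : ZMod N, a ^ (x + y).val = a ^ x.val * a ^ y.val := fun x y => by rw [ZMod.val_add, ← pow_eq_pow_mod _ h1, pow_add]
  have a2 : ∀ x : ZMod N, t * a ^ x.val = a ^ (-x).val * t := fun x => by
    rw [← mul_inv_eq_iff_eq_mul, ← conj_pow, h6, inv_pow, inv_eq_iff_mul_eq_one, ← a1]; simp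
  have a3 : ∀ i j : ℕ, s * a ^ i * s * a ^ j = a ^ j * (s * a ^ i * s) := fun i j => by
    have := (Commute.pow_pow (show Commute a _ from h2) j i).eq
    rw [conj_pow, inv_eq_of_mul_eq_one_right h3] at this
    exact this.symm
  let B : ZMod N → ZMod N → X := fun x y => a ^ x.val * (s * a ^ y.val * s)
  let w : Bool → Bool → X := fun e f => cond e s 1 * cond f t 1
  have ss : ∀ x, s * (s * x) = x := fun x => by rw [← mul_assoc, h3, one_mul]
  have tt : ∀ x, t * (t * x) = x := fun x => by rw [← mul_assoc, h4, one_mul]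
  have ts : ∀ x, t * (s * x) = s * (t * x) := fun x => by rw [← mul_assoc, h5, mul_assoc]
  have b1 : ∀ x y x' y', B (x + x') (y + y') = B x y * B x' y' := fun x y x' y' => by
    simp only [B, a1]
    rw [mul_assoc _ (s * _ * s), ← mul_assoc (s * _ * s), a3]
    simp only [mul_assoc, ss]
  have b2 : ∀ x y, s * B x y = B y x * s := fun x y => by
    simp only [B]
    rw [← a3 x.val]; simp only [mul_assoc]
  have b3 : ∀ x y, t * B x y = B (-x) (-y) * t := fun x y => by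
    simp only [B]
    rw [← mul_assoc, a2, mul_assoc, mul_assoc s, ts, ← mul_assoc t, a2, mul_assoc, h5]; simp only [mul_assoc]
  have b4 : ∀ e f x y, w e f * B x y = B (cond f (-cond e y x) (cond e y x)) (cond f (-cond e x y) (cond e x y)) * w e f := by
    rintro (_ | _) (_ | _) x y <;> simp only [w, cond, one_mul, mul_one, b2, b3]
    rw [mul_assoc, b3, ← mul_assoc, b2, mul_assoc]
  have b5 : ∀ e f e' f', w (xor e e') (xor f f') = w e f * w e' f' := by
    rintro (_ | _) (_ | _) (_ | _) (_ | _) <;> simp [w, mul_assoc, ss, ts, h3, h4, h5]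
  refine ⟨MonoidHom.mk' (fun p => B p.x p.y * w p.e p.f) ?_, fun x => ?_⟩
  · rintro ⟨x, y, e, f⟩ ⟨x', y', e', f'⟩
    show B (x + _) (y + _) * w (xor e e') (xor f f') = B x y * w e f * (B x' y' * w e' f')
    rw [b1, b5, mul_assoc (B x y) (w e f), ← mul_assoc (w e f) (B x' y'), b4, mul_assoc (B x y), mul_assoc (B _ _) (w e f)]
  · rw [(show Commute a _ from h2).mul_pow, conj_pow, inv_eq_of_mul_eq_one_right h3]
    exact (mul_right_inj _).2 (one_mul 1) |>.trans (mul_one _)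

theorem Hk.inj {R : Type} {X : Type*} [CommRing R] [Finite R] [Group X] {k : R} (h : Hk k) (pg : IsPGroup 2 (WG R)) {θ : WG R →* X}
    (hz : θ (A (2 * k) (2 * k)) ≠ 1) : Function.Injective θ := by
  have : Fact (Nat.Prime 2) := ⟨Nat.prime_two⟩
  have : Finite (WG R) := .of_equiv _ eqv.symm
  have := pg.isNilpotent
  refine (MonoidHom.ker_eq_bot_iff θ).1 (by_contra fun e => ?_)
  obtain ⟨⟨⟨x, y, e, f⟩, h1, h2⟩, h3⟩ := ne_bot_iff_exists_ne_one.1 (Core.inf_center_ne_bot_of_normal _ e)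
  have k0 : k ≠ 0 := fun e => h.two (by rw [e, mul_zero])
  have c1 := mem_center_iff.1 h2 (A k 0)
  have c2 := mem_center_iff.1 h2 ⟨0, 0, false, true⟩
  have c3 := mem_center_iff.1 h2 (s false)
  cases e <;> cases f <;> simp only [mul_def, cond, WG.mk.injEq] at c1 c2 c3
  · obtain rfl : y = x := by linear_combination c3.1
    rcases h.half y (by linear_combination -c2.1) with rfl | rfl
    exacts [h3 rfl, hz h1]
  exacts [h.two (by linear_combination c1.1), k0 (by linear_combination c1.1), k0 (by linear_combination c1.1)]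

theorem hk (n : ℕ) : Hk ((2 : ZMod (2 ^ (n + 2))) ^ n) where
  four := by
    rw [show (4 : ZMod (2 ^ (n + 2))) * 2 ^ n = ((2 ^ (n + 2) : ℕ) : ZMod _) by push_cast; ring, ZMod.natCast_self]
  two := by
    rw [show (2 : ZMod (2 ^ (n + 2))) * 2 ^ n = ((2 ^ (n + 1) : ℕ) : ZMod _) by push_cast; ring, Ne, ZMod.natCast_eq_zero_iff,
      Nat.pow_dvd_pow_iff_le_right one_lt_two]
    omega
  half x h := by
    have e : ((2 * x.val : ℕ) : ZMod (2 ^ (n + 2))) = 0 := by simpa using h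
    obtain ⟨c, e⟩ := (Nat.mul_dvd_mul_iff_left two_pos).1 ((pow_succ' 2 (n + 1)).symm.dvd.trans ((ZMod.natCast_eq_zero_iff _ _).1 e))
    have := (Nat.mul_lt_mul_left (by positivity)).1 ((e.symm.trans_lt x.val_lt).trans_eq (pow_succ 2 (n + 1)))
    rw [← ZMod.natCast_zmod_val x, e]
    interval_cases c
    · simp
    · right; push_cast; ring

/-- A diagonal matrix. -/
def dD {F : Type*} [Field F] (l : Fˣ) : GL (Fin 2) F := GeneralLinearGroup.mkOfDetNeZero !![(l : F), 0; 0, 1] (by simp)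

theorem exists_g2 (F : Type*) [Field F] [Fintype F] (hF : Odd (Fintype.card F)) :
    ∃ φ ψ : SpecialLinearGroup (Fin 2) F →* chevG2.group F, (∀ a b, φ a * ψ b = ψ b * φ a) ∧ φ (-1) = ψ (-1) ∧ ψ (-1) ≠ 1 ∧
      ∀ l : Fˣ, ∃ a, (∀ x, a * φ x * a⁻¹ = φ (slConj _ F (dD l) x)) ∧ (∀ x, a * ψ x * a⁻¹ = ψ (slConj _ F (dD l) x)) ∧
        a * a = φ ((PreSys.sl2 F).h true l) * ψ ((PreSys.sl2 F).h true l) := by
  have hc := compat_G2
  have hm := matOK_G2
  let τ : (Fin chevG2.rank → Fˣ) →* chevG2.group F := (hc.gst hm).tor (hc.gmult hm)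
  have e : ∀ r : Fin chevG2.nroots, RG2.co r ⟨0, by decide⟩ = 1 → RG2.co r ⟨1, by decide⟩ % 2 = 0 →
      ∑ i, RG2.wr r i = 1 → ∑ i, RG2.wr (RG2.neg r) i = -1 →
      ∃ φ : SpecialLinearGroup (Fin 2) F →* chevG2.group F, φ.range = (hc.gsys hm F).U {r, RG2.neg r} ∧ φ (-1) = hc.inv2 hm F 1 ∧
        (∀ l x, τ (fun _ => l) * φ x * (τ fun _ => l)⁻¹ = φ (slConj _ F (dD l) x)) ∧
        ∀ l : Fˣ, φ ((PreSys.sl2 F).h true l) = τ fun i => l ^ RG2.co r i := by
    intro r h1 h2 h3 h4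
    obtain ⟨φ, a, b⟩ := (hc.gst hm (F := F)).exists_sl2_hom (hc.gmult hm) r
    have b1 : ∀ c t, φ ((PreSys.sl2 F).x c t) = ((hc.gsys hm F).atRoot r).x c t := fun c t => by cases c; exacts [(b t).2, (b t).1]
    have c : ∀ l : Fˣ, φ ((PreSys.sl2 F).h true l) = τ fun i => l ^ RG2.co r i := fun l =>
      ((PreSys.sl2 F).map_h b1 true l).trans ((hc.gst hm).h_eq_tor (hc.gmult hm) r l)
    refine ⟨φ, a.trans ((hc.gsys hm F).U_union _ _).symm, ?_, fun l x => ?_, c⟩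
    · rw [show (-1 : SpecialLinearGroup (Fin 2) F) = (PreSys.sl2 F).h true ((-1 : Fˣ) : F) from Subtype.ext (by
        rw [PreSys.sl2_h (by simp)]; ext i j; fin_cases i <;> fin_cases j <;> simp), c, Compat.inv2]
      congr 1; funext i
      fin_cases i
      · exact congrArg _ h1
      · exact zpow_congr (n := 2) (by simp) (by simpa [dg] using Int.dvd_of_emod_eq_zero h2)
    · have ev : ∀ s, evw (RG2.wr s) (fun _ => l) = l ^ ∑ i, RG2.wr s i := fun s => by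
        simpa using evw_zpow (RG2.wr s) (fun _ => 1) l
      refine ((PreSys.sl2 F).U_le_iff (H := ((MulAut.conj (τ fun _ => l)).toMonoidHom.comp φ).eqLocus
        (φ.comp (slConj _ F (dD l)).toMonoidHom))).2 (fun c _ t => ?_) (PreSys.sl2_gen.ge (mem_top x))
      show τ _ * φ _ * (τ _)⁻¹ = φ (slConj _ F (dD l) _)
      cases c
      · rw [(b t).2, (hc.gst hm).tor_conj, ev, h4, ← (b _).2]
        refine congrArg φ (Subtype.ext ?_)
        rw [coe_slConj, Units.eq_mul_inv_iff_mul_eq, PreSys.sl2_false, PreSys.sl2_false]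
        simp [dD]; field_simp
      · rw [(b t).1, (hc.gst hm).tor_conj, ev, h3, ← (b _).1]
        refine congrArg φ (Subtype.ext ?_)
        rw [coe_slConj, Units.eq_mul_inv_iff_mul_eq, PreSys.sl2_true, PreSys.sl2_true]
        simp [dD]
  have w : ∀ r : Fin chevG2.nroots, ∑ i, RG2.wr r i = chevG2.cartan 0 r + chevG2.cartan 1 r := fun r => by
    rw [show chevG2.cartan 0 r = _ from hc.cartan_eq ⟨0, by decide⟩ r, show chevG2.cartan 1 r = _ from hc.cartan_eq ⟨1, by decide⟩ r]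
    exact Fin.sum_univ_two _
  obtain ⟨φ, b, c, d, f⟩ := e ⟨11, by decide⟩ (by rw [hc.co_eq]; rfl) (by rw [hc.co_eq]; rfl) (by rw [w]; decide +kernel)
    (by rw [w, hc.neg_eq]; decide +kernel)
  obtain ⟨ψ, b', c', d', f'⟩ := e ⟨7, by decide⟩ (by rw [hc.co_eq]; rfl) (by rw [hc.co_eq]; rfl) (by rw [w]; decide +kernel)
    (by rw [w, hc.neg_eq]; decide +kernel)
  refine ⟨φ, ψ, fun x y => ?_, c.trans c'.symm, fun e => ?_, fun l => ⟨_, d l, d' l, ?_⟩⟩
  · refine (hc.gsys hm F).commute_U (fun r hr s hs t u => ?_) (b.le ⟨x, rfl⟩) (b'.le ⟨y, rfl⟩)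
    have h1 : (r : ℕ) = 11 ∨ (r : ℕ) = 0 := hr.imp (congrArg _) fun h => by rw [h, hc.neg_eq]; rfl
    have h2 : (s : ℕ) = 7 ∨ (s : ℕ) = 4 := hs.imp (congrArg _) fun h => by rw [h, hc.neg_eq]; rfl
    have h3 : termsF chevG2 r s = [] ∧ (s : ℕ) ≠ chevG2.neg r := by
      rcases h1 with h1 | h1 <;> rcases h2 with h2 | h2 <;> rw [h1, h2] <;> decide +kernel
    simpa [h3.1] using (hc.gexact hm r s (by rintro rfl; omega) (fun h => h3.2 (by rw [h, hc.neg_eq])) t u).symm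
  · have := hc.orderOf_inv2 hm (by simp) hF (b := 1) (i := ⟨0, by decide⟩) rfl
    rw [← c', e, orderOf_one] at this
    omega
  · rw [f, f', ← map_mul, ← map_mul]
    refine congrArg τ (funext fun i => ?_)
    rw [Pi.mul_apply, Pi.mul_apply, ← _root_.zpow_add, ← _root_.zpow_two, hc.co_eq, hc.co_eq]
    fin_cases i <;> rfl

theorem exists_sq {F X : Type*} [Field F] [Group X] {φ ψ : SpecialLinearGroup (Fin 2) F →* X} (cm : ∀ a b, φ a * ψ b = ψ b * φ a)
    (h : ∀ l : Fˣ, ∃ a, (∀ x, a * φ x * a⁻¹ = φ (slConj _ F (dD l) x)) ∧ (∀ x, a * ψ x * a⁻¹ = ψ (slConj _ F (dD l) x)) ∧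
      a * a = φ ((PreSys.sl2 F).h true l) * ψ ((PreSys.sl2 F).h true l)) (p : GL (Fin 2) F) {w : SpecialLinearGroup (Fin 2) F}
    (hw : p.1 * p.1 = p.1.det • w.1) :
    ∃ a, (∀ x, a * φ x * a⁻¹ = φ (slConj _ F p x)) ∧ (∀ x, a * ψ x * a⁻¹ = ψ (slConj _ F p x)) ∧ a * a = φ w * ψ w := by
  obtain ⟨l, hl⟩ : ∃ l : Fˣ, (l : F) = p.1.det := ⟨GeneralLinearGroup.det p, rfl⟩
  obtain ⟨a, d, d', e⟩ := h l
  obtain ⟨q, hq⟩ : ∃ q : SpecialLinearGroup (Fin 2) F, q.toGL * dD l = p :=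
    ⟨⟨(p * (dD l)⁻¹).1, by simp [dD, ← hl]⟩, Units.ext (Units.inv_mul_cancel_right p.1 (dD l))⟩
  have k : ∀ x, q * slConj _ F (dD l) x * q⁻¹ = slConj _ F p x := fun x => by rw [← slConj_toGL, ← hq, map_mul]; rfl
  have k1 : ∀ a b c x : X, a * b * c * x * (a * b * c)⁻¹ = a * (b * (c * x * c⁻¹) * b⁻¹) * a⁻¹ := fun _ _ _ _ => by group
  have e2 : w = q * slConj _ F (dD l) q * (PreSys.sl2 F).h true l := by
    have e3 : (dD l).1 * (dD l).1 = (l : F) • ((PreSys.sl2 F).h true (l : F)).1 := by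
      rw [PreSys.sl2_h l.ne_zero]; simp [dD]
    have e4 : q.1 * (dD l).1 = p.1 := congrArg Units.val hq
    rw [← hl] at hw
    refine Subtype.ext (smul_right_injective _ l.ne_zero (hw.symm.trans ?_))
    show _ = (l : F) • (q.1 * ((dD l).1 * q.1 * (dD l)⁻¹.1) * ((PreSys.sl2 F).h true (l : F)).1)
    rw [← mul_smul_comm, ← e3, ← e4]
    simp only [mul_assoc, Units.inv_mul_cancel_left]
  generalize slConj _ F (dD l) = c at *
  generalize (PreSys.sl2 F).h true l = c' at *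
  refine ⟨φ q * ψ q * a, fun x => ?_, fun x => ?_, ?_⟩
  · rw [← k, map_mul, map_mul, map_inv, k1, d, ← cm, mul_inv_cancel_right]
  · rw [← k, map_mul, map_mul, map_inv, cm, k1, d', cm, mul_inv_cancel_right]
  · rw [e2, map_mul, map_mul, map_mul, map_mul, show φ q * ψ q * a * (φ q * ψ q * a) =
      φ q * (ψ q * (a * φ q * a⁻¹)) * (a * ψ q * a⁻¹ * (a * a)) by group, e, d, d', ← cm, ← mul_assoc (ψ _) (φ _), ← cm]
    simp only [mul_assoc]
    rw [← mul_assoc (ψ q), ← cm, mul_assoc]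

theorem exists_quat {F : Type*} [Field F] [Finite F] (h2 : (2 : F) ≠ 0) : ∃ n, padicValNat 2 (Nat.card F ^ 2 - 1) = n + 3 ∧
    ∃ ζ j : SpecialLinearGroup (Fin 2) F, ζ ^ 2 ^ (n + 1) = -1 ∧ j * j = -1 ∧ j * ζ * j⁻¹ = ζ⁻¹ := by
  have : Fact (Nat.Prime 2) := ⟨Nat.prime_two⟩
  obtain ⟨P⟩ : Nonempty (Sylow 2 (⊤ : Subgroup (SpecialLinearGroup (Fin 2) F))) := inferInstance
  obtain ⟨φ, hφ⟩ := exists_hom_quaternion_two (F := F) h2
  obtain ⟨k, hk, ⟨e⟩⟩ := sl2_sylow_two_quaternion_of_hom h2 (φ.codRestrict ⊤ fun _ => trivial) (fun _ _ e => hφ (congrArg Subtype.val e)) P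
  obtain ⟨n, rfl⟩ : ∃ n, k = n + 1 := ⟨k - 1, by omega⟩
  let χ := ((⊤ : Subgroup (SpecialLinearGroup (Fin 2) F)).subtype.comp (P : Subgroup _).subtype).comp e.symm.toMonoidHom
  have hχ : Function.Injective χ := (Subtype.val_injective.comp Subtype.val_injective).comp e.symm.injective
  have ha : orderOf (χ (.a 1)) = 2 * 2 ^ (n + 1) := by rw [orderOf_injective χ hχ, QuaternionGroup.orderOf_a_one]
  have ha1 : χ (.a 1) ^ 2 ^ (n + 1) = -1 := by
    refine (sl2_mul_self_eq_one h2 ?_).resolve_left (pow_ne_one_of_lt_orderOf (by positivity) (by rw [ha]; exact lt_two_mul_self (by positivity)))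
    rw [← pow_add, ← two_mul]
    exact orderOf_dvd_iff_pow_eq_one.1 ha.dvd
  refine ⟨n, ?_, _, χ (.xa 0), ha1, by rw [← ha1, ← map_mul, ← map_pow, ← pow_two, QuaternionGroup.xa_sq, QuaternionGroup.a_one_pow], ?_⟩
  · have := P.card_eq_multiplicity
    rw [Nat.card_congr e.toEquiv, Nat.card_eq_fintype_card, QuaternionGroup.card, card_top, Nat.factorization_def _ Nat.prime_two,
      Block2.SylEA.val_SL2 h2, show 4 * 2 ^ (n + 1) = 2 ^ (n + 3) by ring] at this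
    exact (Nat.pow_right_injective le_rfl this).symm
  · rw [mul_inv_eq_iff_eq_mul, eq_inv_mul_iff_mul_eq, ← map_mul, ← map_mul]
    simp

theorem pg (n : ℕ) : IsPGroup 2 (WG (ZMod (2 ^ n))) := .of_card (n := n + n + 2) (by rw [card, Nat.card_zmod]; ring)

theorem exists_model (F : Type*) [Field F] [Fintype F] (hF : Odd (Fintype.card F)) :
    ∃ (n : ℕ) (θ : WG (ZMod (2 ^ (n + 2))) →* chevG2.group F), Function.Injective θ ∧ Amalg.Syl 2 θ.range ⊤ := by
  have : Fact (Nat.Prime 2) := ⟨Nat.prime_two⟩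
  have h2 := Forms.two_ne_zero_of_odd_card rfl hF
  obtain ⟨n, hn, ζ, j, z1, jj, jz⟩ := exists_quat h2
  obtain ⟨φ, ψ, cm, e1, e2, h⟩ := exists_g2 F hF
  have hd : (1 + ζ.1).det ≠ 0 := fun e => by
    have e3 := congrArg det (mul_neg_geom_sum (-ζ.1) (2 ^ (n + 1)))
    rw [sub_neg_eq_add, det_mul, e, zero_mul, Even.neg_pow ⟨2 ^ n, by ring⟩, show ζ.1 ^ _ = -1 from congrArg Subtype.val z1] at e3
    simp [det_fin_two] at e3
    exact h2 (by linear_combination e3)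
  obtain ⟨a, a1, a2, a3⟩ := exists_sq cm h (GeneralLinearGroup.mkOfDetNeZero _ hd) (w := ζ) (by
    have := ζ.2
    rw [det_fin_two] at this
    ext a b
    fin_cases a <;> fin_cases b <;> simp [det_fin_two, mul_apply]
    exacts [by linear_combination -(1 + ζ.1 0 0) * this, by linear_combination -ζ.1 0 1 * this, by linear_combination -ζ.1 1 0 * this,
      by linear_combination -(1 + ζ.1 1 1) * this])
  have c1 : slConj _ F (GeneralLinearGroup.mkOfDetNeZero _ hd) ζ = ζ := Subtype.ext (by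
    rw [coe_slConj, Units.mul_inv_eq_iff_eq_mul]
    simp [mul_add, add_mul])
  have c2 : slConj _ F (GeneralLinearGroup.mkOfDetNeZero _ hd) j = ζ * j := Subtype.ext (by
    rw [coe_slConj, Units.mul_inv_eq_iff_eq_mul]
    have : ζ.1 * j.1 * ζ.1 = j.1 := congrArg Subtype.val (show ζ * j * ζ = j by
      rw [mul_assoc, mul_inv_eq_iff_eq_mul.1 jz, mul_inv_cancel_left])
    simp [mul_add, add_mul, this, add_comm])
  generalize slConj _ F (GeneralLinearGroup.mkOfDetNeZero _ hd) = c at a1 a2 c1 c2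
  obtain ⟨Φ, f0⟩ : ∃ Φ : _ × _ →* chevG2.group F, ∀ x y, Φ (x, y) = φ x * ψ y := ⟨φ.noncommCoprod ψ cm, fun _ _ => rfl⟩
  have f1 : ∀ x y, a * Φ (x, y) * a⁻¹ = Φ (c x, c y) := fun x y => by rw [f0, f0, ← a1, ← a2, conj_mul]
  have f2 : Φ (-1, -1) = 1 := by rw [f0, e1, ← map_mul]; simp
  have f3 : a * a = Φ (ζ, ζ) := a3.trans (f0 _ _).symm
  obtain ⟨i, ii, ji, ci, iz⟩ : ∃ i : SpecialLinearGroup (Fin 2) F, i * i = -1 ∧ j * i = -(i * j) ∧ c i = i ∧ i * ζ = ζ * i := by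
    have e : ζ ^ 2 ^ n * ζ ^ 2 ^ n = -1 := by rw [← pow_add, ← two_mul, ← pow_succ', z1]
    refine ⟨_, e, ?_, by rw [map_pow, c1], pow_mul_comm' _ _⟩
    rw [← neg_mul, ← mul_inv_eq_iff_eq_mul, ← conj_pow, jz, inv_pow, inv_eq_iff_mul_eq_one, mul_neg, e, neg_neg]
  have s1 : Φ (j, i) * a * (Φ (j, i))⁻¹ = (Φ (ζ, 1))⁻¹ * a := by
    rw [mul_inv_eq_iff_eq_mul, mul_assoc, mul_inv_eq_iff_eq_mul.1 (f1 j i), c2, ci, eq_inv_mul_iff_mul_eq, ← mul_assoc, ← map_mul]
    simp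
  have s2 : a * (Φ (ζ, 1))⁻¹ = (Φ (ζ, 1))⁻¹ * a := by
    rw [← mul_inv_eq_iff_eq_mul, ← conj_inv, f1, c1, map_one]
  obtain ⟨θ, hθ⟩ := exists_hom (N := 2 ^ (n + 2)) (a := a) (s := Φ (j, i)) (t := Φ (i * j, i * j))
    (by rw [pow_succ', pow_mul, pow_two, f3, ← map_pow, Prod.pow_mk, z1, f2]) (by rw [s1, ← mul_assoc, s2])
    (by rw [← map_mul, Prod.mk_mul_mk, jj, ii, f2])
    (by rw [← map_mul, Prod.mk_mul_mk, mul_assoc, ← mul_assoc j, ji, neg_mul, mul_assoc, jj, mul_neg_one, neg_neg, ii, f2])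
    (by
      rw [← one_mul (Φ (j, i) * _), ← f2, ← map_mul, ← map_mul, ← map_mul]
      simp only [Prod.mk_mul_mk, ← mul_assoc j, mul_assoc i, ji, neg_mul, mul_neg, one_mul, neg_neg])
    (by
      have := f1 (i * j) (i * j)
      rw [map_mul c, ci, c2, ← mul_assoc, iz, mul_assoc ζ, ← Prod.mk_mul_mk ζ, map_mul, ← f3, mul_assoc, mul_assoc, mul_right_inj] at this
      rw [mul_inv_eq_iff_eq_mul, eq_inv_mul_iff_mul_eq, ← mul_assoc, ← this, inv_mul_cancel_right])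
  have hi : Function.Injective θ := (hk n).inj (pg _) (by
    rw [hθ, s1, ← mul_assoc, s2, mul_assoc, f3, ← map_inv, ← map_mul, ← map_pow,
      show (2 : ZMod (2 ^ (n + 2))) * 2 ^ n = ((2 ^ (n + 1) : ℕ) : ZMod _) by push_cast; ring,
      ZMod.val_cast_of_lt (Nat.pow_lt_pow_right one_lt_two (by omega))]
    simpa [f0, z1] using e2)
  refine ⟨n, θ, hi, Block2.SylEA.syl_of_le ((pg _).of_equiv (MonoidHom.ofInjective hi)) ?_⟩
  have h1 : 1 < Fintype.card F := Fintype.one_lt_card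
  have h3 : ∀ k, Fintype.card F ^ (k + 1) - 1 ≠ 0 := fun k => Nat.sub_ne_zero_of_lt (Nat.one_lt_pow k.succ_ne_zero h1)
  rw [Nat.card_eq_fintype_card] at hn
  rw [← Nat.card_congr (MonoidHom.ofInjective hi).toEquiv, card, Nat.card_zmod, Agent.S1059.result rfl,
    padicValNat.mul (mul_ne_zero (by positivity) (h3 1)) (h3 5), padicValNat.mul (by positivity) (h3 1),
    Block2.SylEA.val_odd hF.pow, Block2.SylEA.val_even_pow h1 hF 2, Block2.SylEA.val_odd (n := 2 + 1) (by decide), hn]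
  exact le_of_eq (by ring)

end Cfsg.Lib.M12S.WG
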